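import Groth.Agent.SGA7.K166.ExtMult

/-!
# Extensions by the multiplicative group split fppf-locally (`S8711` from `S5431`)
-/

set_option autoImplicit false
universe u
open CategoryTheory CategoryTheory.Limits MonoidalCategory CartesianMonoidalCategory MonObj AlgebraicGeometry

namespace K166.ExtFinal

theorem isKernel {S : Scheme.{u}} {Q E G : Over S} [GrpObj Q] [GrpObj E] [GrpObj G] {u : G ⟶ E} {v : E ⟶ Q}
    (hex : NonAbH1.IsExactSeq Scheme.fppfPrecoverage u v) : AlgGrp.IsKernel u v := by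
  obtain ⟨hu, hv, huv, hpb, -⟩ := hex
  have hm := K564.ExtAlg.mono_of_pb u v hpb
  have h1 : ∀ T : Over S, toUnit T ≫ MonObj.one = (1 : T ⟶ Q) := fun T => rfl
  have key : ∀ s : PullbackCone v η[Q], ∃ g : s.pt ⟶ G, g ≫ u = s.fst := fun s => by
    refine K564.ExtAlg.exists_lift_of_pb u v hpb s.fst ?_
    rw [s.condition, toUnit_unique s.snd (toUnit _)]
    exact h1 _
  choose l hl using key
  have w : u ≫ v = toUnit G ≫ η[Q] := by rw [huv]; exact (h1 G).symm
  exact ⟨⟨w⟩, ⟨PullbackCone.IsLimit.mk _ (fun s => l s) (fun s => hl s) (fun s => toUnit_unique _ _)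
    (fun s m h2 _ => by rw [← cancel_mono u, hl s]; exact h2)⟩⟩

/-- The statement S8711; the hypothesis `hext` is the case a) of S5431. -/
theorem main (S : Scheme.{u})
    (Q E : Over S) [GrpObj Q] [GrpObj E] [IsCommMonObj Q] [IsCommMonObj E]
    (hQ : (IsFinite Q.hom ∧ Flat Q.hom ∧ LocallyOfFinitePresentation Q.hom) ∨ SGA3x.IsMultTypeFT Q)
    (u : Red.Gm S ⟶ E) (v : E ⟶ Q) (hex : NonAbH1.IsExactSeq Scheme.fppfPrecoverage u v)
    (hext : ∀ (p : E ⟶ Q) [IsMonHom p] [Surjective p.left] [Flat p.left] [QuasiCompact p.left]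
      (i : Red.Gm S ⟶ E) [IsMonHom i], AlgGrp.IsKernel i p → SGA3x.IsMultTypeFT (Red.Gm S) →
      SGA3x.IsMultTypeFT Q → SGA3x.IsMultTypeFT E) :
    TwC.Locally S TwC.Topology.fppf (fun S' f =>
      ∃ σ : Red.bc f Q ⟶ Red.bc f E, IsMonHom σ ∧ σ ≫ (Over.pullback f).map v = 𝟙 (Red.bc f Q)) := by
  intro s
  rcases hQ with ⟨h1, h2, h3⟩ | hQ
  · exact K166.ExtMain.fin_case hex s
  · obtain ⟨hvs, hva, hvsur⟩ := K166.ExtSec.v_props hex
    have hv := hex.2.1
    have hu := hex.1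
    have hE : SGA3x.IsMultTypeFT E := hext v u (isKernel hex)
      (K21.MultLoc.isMultTypeFT_DS ℤ inferInstance) hQ
    obtain ⟨S', f, hf, hs, hσ⟩ := K166.ExtMult.mult_case hex hE s
    exact ⟨S', f, inferInstance, inferInstance, hs, hσ⟩

end K166.ExtFinal
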