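import Groth.Agent.SGA7.K166.TwDual
import Groth.Agent.Sga3B.AffPts
import Groth.Agent.SGA7.K564.ExtBase
import Groth.Agent.SGA7.K564.ExtAlg
import Groth.Agent.Sga3B.DSPts

/-!
# Splitting an extension of a finite locally free group by the multiplicative group which has a section
-/

set_option autoImplicit false
set_option linter.unusedSectionVars false
universe u

open CategoryTheory CategoryTheory.Limits MonoidalCategory CartesianMonoidalCategory MonObj GrpObj AlgebraicGeometry
open WithConv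
open scoped TensorProduct
open Groth.Agent.Sga3B.AffPts Groth.Agent.Books.AffBridge Groth.Agent.Sga3B.DSPts

namespace K166.ExtFin

section cocyc

variable {C : Type*} [Category C] [CartesianMonoidalCategory C] [BraidedCategory C]
variable {G E Q : C} [GrpObj G] [GrpObj E] [GrpObj Q]

omit [BraidedCategory C] [GrpObj G] in
theorem exists_normalized (v : E ⟶ Q) [IsMonHom v] (s : Q ⟶ E) (hs : s ≫ v = 𝟙 Q) :
    ∃ s : Q ⟶ E, s ≫ v = 𝟙 Q ∧ (1 : 𝟙_ C ⟶ Q) ≫ s = 1 := by
  refine ⟨s * ((1 : Q ⟶ Q) ≫ s)⁻¹, ?_, ?_⟩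
  · simp only [MonObj.mul_comp, GrpObj.inv_comp, Category.assoc, hs, Category.comp_id, inv_one,
      _root_.mul_one]
  · simp only [MonObj.comp_mul, GrpObj.comp_inv, ← Category.assoc, MonObj.comp_one]
    rw [mul_inv_cancel]

omit [BraidedCategory C] [GrpObj G] in
theorem one_comp_of_norm (s : Q ⟶ E) (h1 : (1 : 𝟙_ C ⟶ Q) ≫ s = 1) (T : C) : (1 : T ⟶ Q) ≫ s = 1 := by
  have e : (1 : T ⟶ Q) = toUnit T ≫ (1 : 𝟙_ C ⟶ Q) := (comp_one _).symm
  rw [e, Category.assoc, h1, comp_one]

variable [IsCommMonObj E] [IsCommMonObj Q] (u : G ⟶ E) (v : E ⟶ Q)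
  (hpb : IsPullback (fst E G) ((E ◁ u) ≫ μ[E]) v v)

include hpb in
omit [IsCommMonObj E] [IsCommMonObj Q] in
theorem exists_cocycle [IsMonHom v] (s : Q ⟶ E) (hs : s ≫ v = 𝟙 Q) : ∃ g : Q ⊗ Q ⟶ G, ∀ {T : C} (a b : T ⟶ Q),
    (a ≫ s) * (b ≫ s) = ((a * b) ≫ s) * (lift a b ≫ g ≫ u) := by
  obtain ⟨g, hg⟩ := K564.ExtAlg.exists_diff_of_pb u v hpb ((fst Q Q * snd Q Q) ≫ s)
    ((fst Q Q ≫ s) * (snd Q Q ≫ s)) (by
      rw [MonObj.mul_comp (fst Q Q ≫ s) (snd Q Q ≫ s) v, Category.assoc, Category.assoc, Category.assoc, hs,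
        Category.comp_id, Category.comp_id, Category.comp_id])
  refine ⟨g, fun {T} a b => ?_⟩
  have h := congrArg (fun z => lift a b ≫ z) hg
  simp only [MonObj.comp_mul, ← Category.assoc, lift_fst, lift_snd] at h
  rw [h, Category.assoc]

variable {s : Q ⟶ E} {g : Q ⊗ Q ⟶ G} (hg : ∀ {T : C} (a b : T ⟶ Q),
    (a ≫ s) * (b ≫ s) = ((a * b) ≫ s) * (lift a b ≫ g ≫ u))

include hpb hg in
omit [IsCommMonObj Q] in
theorem kap_cocycle [IsMonHom u] {T : C} (a b c : T ⟶ Q) :
    (lift a b ≫ g) * (lift (a * b) c ≫ g) = (lift b c ≫ g) * (lift a (b * c) ≫ g) := by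
  have hm := K564.ExtAlg.mono_of_pb u v hpb
  rw [← cancel_mono u, MonObj.mul_comp, MonObj.mul_comp]
  simp only [Category.assoc]
  have h1 := hg a b
  have h2 := hg (a * b) c
  have h3 := hg b c
  have h4 := hg a (b * c)
  have h5 : (a ≫ s) * (b ≫ s) * (c ≫ s) = (a ≫ s) * ((b ≫ s) * (c ≫ s)) := _root_.mul_assoc _ _ _
  rw [h1, h3] at h5
  have h6 : (a * b) ≫ s * (lift a b ≫ g ≫ u) * (c ≫ s) =
      ((a * b * c) ≫ s) * ((lift a b ≫ g ≫ u) * (lift (a * b) c ≫ g ≫ u)) := by
    rw [mul_right_comm, h2, _root_.mul_assoc, mul_comm (lift (a * b) c ≫ g ≫ u)]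
  have h7 : (a ≫ s) * (((b * c) ≫ s) * (lift b c ≫ g ≫ u)) =
      ((a * b * c) ≫ s) * ((lift b c ≫ g ≫ u) * (lift a (b * c) ≫ g ≫ u)) := by
    rw [← _root_.mul_assoc, h4, _root_.mul_assoc, mul_comm (lift a (b * c) ≫ g ≫ u), _root_.mul_assoc a b c]
  rw [h6, h7] at h5
  exact mul_left_cancel h5

include hpb hg in
theorem kap_symm {T : C} (a b : T ⟶ Q) : lift a b ≫ g = lift b a ≫ g := by
  have hm := K564.ExtAlg.mono_of_pb u v hpb
  rw [← cancel_mono u, Category.assoc, Category.assoc]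
  have h1 := hg a b
  have h2 := hg b a
  rw [mul_comm, h2, mul_comm b a] at h1
  exact (mul_left_cancel h1).symm

include hpb hg in
theorem kap_one [IsMonHom u] (h1 : (1 : 𝟙_ C ⟶ Q) ≫ s = 1) {T : C} (a : T ⟶ Q) : lift 1 a ≫ g = 1 := by
  have hm := K564.ExtAlg.mono_of_pb u v hpb
  rw [← cancel_mono u, Category.assoc]
  have h2 := hg 1 a
  rw [one_comp_of_norm s h1, _root_.one_mul, _root_.one_mul] at h2
  have h3 : lift 1 a ≫ g ≫ u = 1 := mul_eq_left.mp h2.symm
  rw [h3, one_comp]

end cocyc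

section units

variable {R : Type u} [CommRing R]

/-- an identification of the points of a group with the units of the ring of functions -/
structure UGrp (G : Over (Spec (CommRingCat.of R))) [GrpObj G] where
  eq (T : Over (Spec (CommRingCat.of R))) : (T ⟶ G) ≃* (Fn T)ˣ
  nat {T T' : Over (Spec (CommRingCat.of R))} (h : T' ⟶ T) (t : T ⟶ G) :
    ((eq T' (h ≫ t) : (Fn T')ˣ) : Fn T') = fnMap h (eq T t : Fn T)

/-- the function of a point -/
noncomputable def UGrp.fn {G : Over (Spec (CommRingCat.of R))} [GrpObj G] (gu : UGrp G)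
    {T : Over (Spec (CommRingCat.of R))} (t : T ⟶ G) : Fn T := (gu.eq T t : (Fn T)ˣ)

variable {G : Over (Spec (CommRingCat.of R))} [GrpObj G] (gu : UGrp G)
  {T T' : Over (Spec (CommRingCat.of R))}

theorem UGrp.fn_comp (h : T' ⟶ T) (t : T ⟶ G) : gu.fn (h ≫ t) = fnMap h (gu.fn t) := gu.nat h t

theorem UGrp.fn_mul (t t' : T ⟶ G) : gu.fn (t * t') = gu.fn t * gu.fn t' := by
  rw [UGrp.fn, map_mul, Units.val_mul]; rfl

theorem UGrp.fn_one : gu.fn (1 : T ⟶ G) = 1 := by
  rw [UGrp.fn, map_one, Units.val_one]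

theorem UGrp.isUnit_fn (t : T ⟶ G) : IsUnit (gu.fn t) := (gu.eq T t).isUnit

/-- the point of a unit -/
noncomputable def UGrp.pt {f : Fn T} (hf : IsUnit f) : T ⟶ G := (gu.eq T).symm hf.unit

theorem UGrp.fn_pt {f : Fn T} (hf : IsUnit f) : gu.fn (gu.pt hf) = f := by
  rw [UGrp.fn, UGrp.pt, MulEquiv.apply_symm_apply]; rfl

theorem UGrp.fn_injective : Function.Injective (gu.fn (T := T)) := fun _ _ h =>
  (gu.eq T).injective (Units.ext h)

theorem UGrp.comp_pt (h : T' ⟶ T) {f : Fn T} (hf : IsUnit f) {f' : Fn T'} (hf' : IsUnit f') (e : f' = fnMap h f) :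
    h ≫ gu.pt hf = gu.pt hf' := by
  apply gu.fn_injective
  rw [gu.fn_comp, gu.fn_pt, gu.fn_pt, e]

theorem UGrp.pt_mul {f f' f'' : Fn T} (hf : IsUnit f) (hf' : IsUnit f') (hf'' : IsUnit f'') (e : f * f' = f'') :
    gu.pt hf * gu.pt hf' = gu.pt hf'' := by
  apply gu.fn_injective
  rw [gu.fn_mul, gu.fn_pt, gu.fn_pt, gu.fn_pt, e]

end units

section points

variable {R : Type u} [CommRing R] {A : Type u} [CommRing A]

theorem fnMap_affPt [Algebra R A] {T : Over (Spec (CommRingCat.of R))} (g : A →ₐ[R] Fn T)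
    (z : Fn (SpecOver R A)) : fnMap (affPt T g) z = g (fnSpec A z) := by
  have h : ((fnMap (affPt T g)).comp (fnSpec (R := R) A).symm.toAlgHom) = g := by
    apply (affPt_bijective T).1
    rw [← comp_affPt, affPt_spec]
    have e : (fnSpec (R := R) A).toAlgHom.comp (fnSpec (R := R) A).symm.toAlgHom = AlgHom.id R A := by
      ext; simp
    rw [e, specMap_id, Category.comp_id]
  have h2 := AlgHom.congr_fun h (fnSpec A z)
  simpa using h2

variable [HopfAlgebra R A] {Q : Over (Spec (CommRingCat.of R))} [GrpObj Q] (i : SpecOver R A ≅ Q) [IsMonHom i.hom]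

/-- the point of `Q` given by an algebra map -/
noncomputable def P (T : Over (Spec (CommRingCat.of R))) (x : WithConv (A →ₐ[R] Fn T)) : T ⟶ Q :=
  affPt T x.ofConv ≫ i.hom

theorem P_mul (T : Over (Spec (CommRingCat.of R))) (x y : WithConv (A →ₐ[R] Fn T)) :
    P i T (x * y) = P i T x * P i T y := by
  rw [P, affPt_mul, MonObj.mul_comp]; rfl

theorem P_one (T : Over (Spec (CommRingCat.of R))) : P i T 1 = 1 := by
  have h := P_mul i T 1 1
  rw [_root_.one_mul] at h
  exact (mul_eq_left.mp h.symm)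

omit [IsMonHom i.hom] in
theorem P_surjective (T : Over (Spec (CommRingCat.of R))) : Function.Surjective (P i T) := by
  intro q
  obtain ⟨x, hx⟩ := (affPt_bijective (A := A) T).2 (q ≫ i.inv)
  exact ⟨toConv x, by rw [P, ofConv_toConv, hx, Category.assoc, Iso.inv_hom_id, Category.comp_id]⟩

omit [IsMonHom i.hom] in
theorem P_injective (T : Over (Spec (CommRingCat.of R))) : Function.Injective (P i T) := by
  intro x y h
  rw [P, P, cancel_mono] at h
  exact WithConv.ofConv_injective ((affPt_bijective (A := A) T).1 h)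

omit [IsMonHom i.hom] in
theorem comp_P {T T' : Over (Spec (CommRingCat.of R))} (h : T' ⟶ T) (x : WithConv (A →ₐ[R] Fn T)) :
    h ≫ P i T x = P i T' (toConv ((fnMap h).comp x.ofConv)) := by
  rw [P, ← Category.assoc, comp_affPt]; rfl

include i in
theorem isCocomm [IsCommMonObj Q] : Coalgebra.IsCocomm R A := by
  constructor
  let W := A ⊗[R] A
  let T : Over (Spec (CommRingCat.of R)) := SpecOver R W
  let e : W →ₐ[R] Fn T := (fnSpec (R := R) W).symm.toAlgHom
  have he : Function.Injective e := (fnSpec (R := R) W).symm.injective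
  let x : WithConv (A →ₐ[R] W) := toConv Algebra.TensorProduct.includeLeft
  let y : WithConv (A →ₐ[R] W) := toConv Algebra.TensorProduct.includeRight
  have hxy : x * y = y * x := by
    have h1 : ∀ a b : WithConv (A →ₐ[R] W), (toConv (e.comp (a * b).ofConv) : WithConv (A →ₐ[R] Fn T)) =
        toConv (e.comp a.ofConv) * toConv (e.comp b.ofConv) := fun a b => by
      apply WithConv.ofConv_injective
      exact AlgHom.comp_convMul_distrib e a b
    have h2 : (toConv (e.comp (x * y).ofConv) : WithConv (A →ₐ[R] Fn T)) = toConv (e.comp (y * x).ofConv) := by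
      rw [h1, h1]
      apply P_injective i T
      rw [P_mul, P_mul, mul_comm]
    apply WithConv.ofConv_injective
    ext a
    exact he (AlgHom.congr_fun (WithConv.toConv_injective h2) a)
  have h3 : ∀ z : A ⊗[R] A, TwDual.ev z x y = z := by
    intro z
    induction z using TensorProduct.induction_on with
    | zero => simp [TwDual.ev]
    | add a b ha hb => conv_rhs => rw [← ha, ← hb]
                       exact map_add _ _ _
    | tmul a b =>
      rw [TwDual.ev, Algebra.TensorProduct.lift_tmul]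
      simp [x, y, W]
  have h4 : ∀ z : A ⊗[R] A, TwDual.ev z y x = TensorProduct.comm R A A z := by
    intro z
    induction z using TensorProduct.induction_on with
    | zero => simp [TwDual.ev]
    | add a b ha hb => rw [map_add, ← ha, ← hb]; exact map_add _ _ _
    | tmul a b =>
      rw [TwDual.ev, Algebra.TensorProduct.lift_tmul]
      simp [x, y, W]
  ext a
  simp only [LinearMap.comp_apply, LinearEquiv.coe_coe]
  rw [← h4, TwDual.ev_comul, ← hxy, ← TwDual.ev_comul, h3]

end points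

section general

variable {S S' : Scheme.{u}} (f : S' ⟶ S) {Q E : Over S} [GrpObj Q] [GrpObj E] (v : E ⟶ Q)

/-- a homomorphic section of the base change, from a natural multiplicative section on points -/
theorem exists_hom (σ : ∀ T : Over S', ((Over.map f).obj T ⟶ Q) → ((Over.map f).obj T ⟶ E))
    (nat : ∀ {T' T : Over S'} (h : T' ⟶ T) (a : (Over.map f).obj T ⟶ Q),
      (Over.map f).map h ≫ σ T a = σ T' ((Over.map f).map h ≫ a))
    (mul : ∀ (T : Over S') (a b : (Over.map f).obj T ⟶ Q), σ T (a * b) = σ T a * σ T b)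
    (hv : ∀ (T : Over S') (a : (Over.map f).obj T ⟶ Q), σ T a ≫ v = a) :
    ∃ τ : Red.bc f Q ⟶ Red.bc f E, IsMonHom τ ∧ τ ≫ (Over.pullback f).map v = 𝟙 (Red.bc f Q) := by
  let T₀ : Over S' := Red.bc f Q
  let p : (Over.map f).obj T₀ ⟶ Q := (bcEquiv f T₀ Q).symm (𝟙 _)
  have key : ∀ {T : Over S'} (a : T ⟶ T₀),
      a ≫ bcEquiv f T₀ E (σ T₀ p) = bcEquiv f T E (σ T ((bcEquiv f T Q).symm a)) := by
    intro T a
    rw [bcEquiv_naturality, nat, bcEquiv_symm_naturality, Category.comp_id]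
  refine ⟨bcEquiv f T₀ E (σ T₀ p), K564.ExtAlg.isMonHom_of_mul _ fun a b => ?_, ?_⟩
  · rw [key, key, key, map_mul, mul, map_mul]
  · rw [bcEquiv_comp, hv, MulEquiv.apply_symm_apply]

end general

section main

variable {R : Type u} [CommRing R] {A : Type u} [CommRing A] [HopfAlgebra R A]
variable {G E Q : Over (Spec (CommRingCat.of R))} [GrpObj G] [GrpObj E] [GrpObj Q]
  [IsCommMonObj E] [IsCommMonObj Q] (gu : UGrp G) (i : SpecOver R A ≅ Q) [IsMonHom i.hom]

/-- the cocycle, as an element of `A ⊗ A` -/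
noncomputable def h0 (g : Q ⊗ Q ⟶ G) : A ⊗[R] A :=
  fnSpec (A ⊗[R] A) (gu.fn (lift (specMap R Algebra.TensorProduct.includeLeft ≫ i.hom)
    (specMap R Algebra.TensorProduct.includeRight ≫ i.hom) ≫ g))

theorem ev_h0 (g : Q ⊗ Q ⟶ G) (T : Over (Spec (CommRingCat.of R))) (x y : WithConv (A →ₐ[R] Fn T)) :
    TwDual.ev (h0 gu i g) x y = gu.fn (lift (P i T x) (P i T y) ≫ g) := by
  let l : A ⊗[R] A →ₐ[R] Fn T := Algebra.TensorProduct.lift x.ofConv y.ofConv (fun _ _ => Commute.all _ _)
  have h1 : affPt T l ≫ specMap R Algebra.TensorProduct.includeLeft = affPt T x.ofConv := by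
    rw [affPt_specMap]
    congr 1
    ext a
    simp [l]
  have h2 : affPt T l ≫ specMap R Algebra.TensorProduct.includeRight = affPt T y.ofConv := by
    rw [affPt_specMap]
    congr 1
    ext a
    simp [l]
  have h3 : lift (P i T x) (P i T y) = affPt T l ≫ lift (specMap R Algebra.TensorProduct.includeLeft ≫ i.hom)
      (specMap R Algebra.TensorProduct.includeRight ≫ i.hom) := by
    rw [comp_lift, ← Category.assoc, ← Category.assoc, h1, h2]; rfl
  rw [h3, Category.assoc, gu.fn_comp, fnMap_affPt]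
  rfl

omit [HopfAlgebra R A] in
theorem ev_comp [HopfAlgebra R A] (h : A ⊗[R] A) {B B' : Type u} [CommRing B] [Algebra R B] [CommRing B'] [Algebra R B']
    (φ : B →ₐ[R] B') (x y : WithConv (A →ₐ[R] B)) :
    TwDual.ev h (toConv (φ.comp x.ofConv)) (toConv (φ.comp y.ofConv)) = φ (TwDual.ev h x y) := by
  induction h using TensorProduct.induction_on with
  | zero => simp [TwDual.ev]
  | add a b ha hb =>
    have e1 : ∀ {B : Type u} [CommRing B] [Algebra R B] (x y : WithConv (A →ₐ[R] B)),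
        TwDual.ev (a + b) x y = TwDual.ev a x y + TwDual.ev b x y := fun x y => map_add _ _ _
    rw [e1, e1, map_add, ha, hb]
  | tmul a b => simp [TwDual.ev]

theorem toConv_comp_mul {B B' : Type u} [CommRing B] [Algebra R B] [CommRing B'] [Algebra R B']
    (φ : B →ₐ[R] B') (x y : WithConv (A →ₐ[R] B)) : (toConv (φ.comp (x * y).ofConv) : WithConv (A →ₐ[R] B')) =
      toConv (φ.comp x.ofConv) * toConv (φ.comp y.ofConv) := by
  apply WithConv.ofConv_injective
  exact AlgHom.comp_convMul_distrib φ x y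

theorem toConv_comp_one {B B' : Type u} [CommRing B] [Algebra R B] [CommRing B'] [Algebra R B']
    (φ : B →ₐ[R] B') : (toConv (φ.comp (1 : WithConv (A →ₐ[R] B)).ofConv) : WithConv (A →ₐ[R] B')) = 1 := by
  have h := toConv_comp_mul (A := A) φ 1 1
  rw [_root_.one_mul] at h
  exact mul_eq_left.mp h.symm

/-- to check the cocycle conditions on the rings of functions -/
theorem cocyc_of_fn {h : A ⊗[R] A}
    (h1 : ∀ (T : Over (Spec (CommRingCat.of R))) (x y z : WithConv (A →ₐ[R] Fn T)),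
      TwDual.ev h x y * TwDual.ev h (x * y) z = TwDual.ev h y z * TwDual.ev h x (y * z))
    (h2 : ∀ (T : Over (Spec (CommRingCat.of R))) (x y : WithConv (A →ₐ[R] Fn T)),
      TwDual.ev h x y = TwDual.ev h y x)
    (h3 : ∀ (T : Over (Spec (CommRingCat.of R))) (y : WithConv (A →ₐ[R] Fn T)), TwDual.ev h 1 y = 1) :
    TwDual.Cocyc h where
  cocycle B _ _ x y z := by
    let e : B →ₐ[R] Fn (SpecOver R B) := (fnSpec (R := R) B).symm.toAlgHom
    have he : Function.Injective e := (fnSpec (R := R) B).symm.injective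
    apply he
    rw [map_mul, map_mul, ← ev_comp, ← ev_comp, ← ev_comp, ← ev_comp, toConv_comp_mul, toConv_comp_mul, h1]
  symm B _ _ x y := by
    let e : B →ₐ[R] Fn (SpecOver R B) := (fnSpec (R := R) B).symm.toAlgHom
    have he : Function.Injective e := (fnSpec (R := R) B).symm.injective
    apply he
    rw [← ev_comp, ← ev_comp, h2]
  one B _ _ y := by
    let e : B →ₐ[R] Fn (SpecOver R B) := (fnSpec (R := R) B).symm.toAlgHom
    have he : Function.Injective e := (fnSpec (R := R) B).symm.injective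
    apply he
    rw [← ev_comp, toConv_comp_one, h3, map_one]

variable (u : G ⟶ E) (v : E ⟶ Q) [IsMonHom u] [IsMonHom v] (huv : u ≫ v = 1)
  (hpb : IsPullback (fst E G) ((E ◁ u) ≫ μ[E]) v v) (s : Q ⟶ E) (hs : s ≫ v = 𝟙 Q)
  (h1 : (1 : 𝟙_ (Over (Spec (CommRingCat.of R))) ⟶ Q) ≫ s = 1)
  (g : Q ⊗ Q ⟶ G) (hg : ∀ {T : Over (Spec (CommRingCat.of R))} (a b : T ⟶ Q),
    (a ≫ s) * (b ≫ s) = ((a * b) ≫ s) * (lift a b ≫ g ≫ u))

include hpb hg h1 in
theorem cocyc_h0 : TwDual.Cocyc (h0 gu i g) := by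
  refine cocyc_of_fn ?_ ?_ ?_
  · intro T x y z
    rw [ev_h0, ev_h0, ev_h0, ev_h0, ← gu.fn_mul, ← gu.fn_mul, P_mul, P_mul, kap_cocycle u v hpb hg]
  · intro T x y
    rw [ev_h0, ev_h0, kap_symm u v hpb hg]
  · intro T y
    rw [ev_h0, P_one, kap_one u v hpb hg h1, gu.fn_one]

section alg

variable {C : Type u} [CommRing C] [Algebra R C]

/-- the structure morphism -/
noncomputable abbrev qm (R C : Type u) [CommRing R] [CommRing C] [Algebra R C] :
    Spec (CommRingCat.of C) ⟶ Spec (CommRingCat.of R) := Spec.map (CommRingCat.ofHom (algebraMap R C))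

/-- the algebra map given by the structure morphism -/
noncomputable def gam (T : Over (Spec (CommRingCat.of C))) : C →ₐ[R] Fn ((Over.map (qm R C)).obj T) :=
  (Equiv.ofBijective _ (affPt_bijective ((Over.map (qm R C)).obj T))).symm
    (Over.homMk T.hom : (Over.map (qm R C)).obj T ⟶ SpecOver R C)

theorem affPt_gam (T : Over (Spec (CommRingCat.of C))) : affPt ((Over.map (qm R C)).obj T) (gam T) =
    (Over.homMk T.hom : (Over.map (qm R C)).obj T ⟶ SpecOver R C) :=
  (Equiv.ofBijective _ (affPt_bijective ((Over.map (qm R C)).obj T))).apply_symm_apply _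

theorem gam_comp {T' T : Over (Spec (CommRingCat.of C))} (h : T' ⟶ T) :
    (fnMap ((Over.map (qm R C)).map h)).comp (gam T) = gam T' := by
  apply (affPt_bijective _).1
  rw [← comp_affPt, affPt_gam, affPt_gam]
  ext1
  exact Over.w h

/-- the value of the splitting function -/
noncomputable def cv (c : A ⊗[R] C) (T : Over (Spec (CommRingCat.of C)))
    (x : WithConv (A →ₐ[R] Fn ((Over.map (qm R C)).obj T))) : Fn ((Over.map (qm R C)).obj T) :=
  Algebra.TensorProduct.lift x.ofConv (gam T) (fun _ _ => Commute.all _ _) c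

theorem cv_comp (c : A ⊗[R] C) {T' T : Over (Spec (CommRingCat.of C))} (h : T' ⟶ T)
    (x : WithConv (A →ₐ[R] Fn ((Over.map (qm R C)).obj T))) :
    cv c T' (toConv ((fnMap ((Over.map (qm R C)).map h)).comp x.ofConv)) =
      fnMap ((Over.map (qm R C)).map h) (cv c T x) := by
  rw [cv, cv, ← AlgHom.comp_apply]
  congr 1
  apply Algebra.TensorProduct.ext'
  intro a b
  rw [AlgHom.comp_apply, Algebra.TensorProduct.lift_tmul, Algebra.TensorProduct.lift_tmul, map_mul, ← gam_comp h]
  rfl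

/-- the algebra map of a point -/
noncomputable def X (T : Over (Spec (CommRingCat.of R))) (a : T ⟶ Q) : WithConv (A →ₐ[R] Fn T) :=
  (P_surjective i T a).choose

theorem P_X (T : Over (Spec (CommRingCat.of R))) (a : T ⟶ Q) : P i T (X i T a) = a :=
  (P_surjective i T a).choose_spec

theorem X_mul (T : Over (Spec (CommRingCat.of R))) (a b : T ⟶ Q) : X i T (a * b) = X i T a * X i T b := by
  apply P_injective i T
  rw [P_X, P_mul, P_X, P_X]

theorem X_comp {T' T : Over (Spec (CommRingCat.of R))} (h : T' ⟶ T) (a : T ⟶ Q) :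
    X i T' (h ≫ a) = toConv ((fnMap h).comp (X i T a).ofConv) := by
  apply P_injective i T'
  rw [P_X, ← comp_P, P_X]

end alg

theorem grp_aux {M : Type*} [CommGroup M] {a b s g a' b' c' : M} (h : a * b = s * g) (h' : a' * b' = g * c') :
    s * c'⁻¹ = (a * a'⁻¹) * (b * b'⁻¹) := by
  rw [_root_.mul_mul_mul_comm, h, ← _root_.mul_inv_rev, mul_comm b', h', _root_.mul_inv_rev, mul_comm c'⁻¹,
    _root_.mul_assoc s, mul_inv_cancel_left]

include gu i huv hpb hs in
theorem exists_split_of_section [Module.Finite R A] [Module.Projective R A] :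
    ∃ (C : Type u) (_ : CommRing C) (_ : Algebra R C), Module.Finite R C ∧ Module.Projective R C ∧
      Function.Injective (algebraMap R C) ∧ ∃ τ : Red.bc (qm R C) Q ⟶ Red.bc (qm R C) E,
        IsMonHom τ ∧ τ ≫ (Over.pullback (qm R C)).map v = 𝟙 (Red.bc (qm R C) Q) := by
  obtain ⟨s, hs, h1⟩ := exists_normalized v s hs
  obtain ⟨g, hg⟩ := exists_cocycle u v hpb s hs
  have hcc := cocyc_h0 gu i u v hpb s h1 g hg
  have := isCocomm i
  obtain ⟨C, _, _, hfin, hproj, hinj, c, hc⟩ := TwDual.exists_split hcc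
  refine ⟨C, inferInstance, inferInstance, hfin, hproj, hinj, ?_⟩
  have cmul : ∀ (T : Over (Spec (CommRingCat.of C))) (x y : WithConv (A →ₐ[R] Fn ((Over.map (qm R C)).obj T))),
      cv c T x * cv c T y = TwDual.ev (h0 gu i g) x y * cv c T (x * y) := fun T x y => (hc _ (gam T)).1 x y
  have cone : ∀ (T : Over (Spec (CommRingCat.of C))), cv c T 1 = 1 := fun T => (hc _ (gam T)).2
  have hu : ∀ (T : Over (Spec (CommRingCat.of C))) (x : WithConv (A →ₐ[R] Fn ((Over.map (qm R C)).obj T))),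
      IsUnit (cv c T x) := by
    intro T x
    have h2 := cmul T x x⁻¹
    rw [mul_inv_cancel, cone, _root_.mul_one] at h2
    have h3 : IsUnit (TwDual.ev (h0 gu i g) x x⁻¹) := by
      rw [ev_h0]
      exact gu.isUnit_fn _
    rw [← h2] at h3
    exact isUnit_of_mul_isUnit_left h3
  refine exists_hom (qm R C) v (fun T a => (a ≫ s) * (gu.pt (hu T (X i _ a)) ≫ u)⁻¹) ?_ ?_ ?_
  · intro T' T h a
    simp only [MonObj.comp_mul, GrpObj.comp_inv, ← Category.assoc]
    congr 3
    refine gu.comp_pt _ _ _ ?_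
    rw [X_comp, cv_comp]
  · intro T a b
    have h2 : gu.pt (hu T (X i _ a)) * gu.pt (hu T (X i _ b)) =
        (lift a b ≫ g) * gu.pt (hu T (X i _ (a * b))) := by
      apply gu.fn_injective
      rw [gu.fn_mul, gu.fn_mul, gu.fn_pt, gu.fn_pt, gu.fn_pt, cmul, X_mul, ev_h0, P_X, P_X]
    have h3 := congrArg (fun z => z ≫ u) h2
    simp only [MonObj.mul_comp, Category.assoc] at h3
    have h4 := hg a b
    exact grp_aux h4 h3
  · intro T a
    have h5 : ∀ t : (Over.map (qm R C)).obj T ⟶ G, t ≫ u ≫ v = 1 := fun t => by rw [huv, comp_one]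
    simp only [MonObj.mul_comp, GrpObj.inv_comp, Category.assoc, hs, Category.comp_id, h5, inv_one, _root_.mul_one]

end main

end K166.ExtFin
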