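import Groth.Agent.SGA1.K151.GmGa
import Groth.Agent.GrpSch.K269.ThetaSec
import Groth.Agent.SGA7.K564.ExtAlg
import Mathlib.RingTheory.QuasiFinite.Basic

/-!
# Local sections of `E → Q` for an extension of a finite group `Q` by the multiplicative group
-/

set_option autoImplicit false
set_option linter.unusedSectionVars false
universe u

open CategoryTheory CategoryTheory.Limits MonoidalCategory CartesianMonoidalCategory MonObj GrpObj AlgebraicGeometry
open scoped TensorProduct

namespace K166.ExtSec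

section alg

variable {R A B : Type u} [CommRing R] [CommRing A] [CommRing B] [Algebra R A] [Algebra A B]

/-- elements avoiding all but one of finitely many incomparable primes -/
theorem exists_sep {J : Type*} [Finite J] (m : J → Ideal A) [hm : ∀ i, (m i).IsPrime]
    (hinc : ∀ i j, m i ≤ m j → i = j) (i : J) : ∃ a : A, a ∉ m i ∧ ∀ j, j ≠ i → a ∈ m j := by
  classical
  cases nonempty_fintype J
  have h1 : ∀ j, ∃ b : A, j ≠ i → b ∈ m j ∧ b ∉ m i := by
    intro j
    by_cases hj : j = i
    · exact ⟨0, fun h => absurd hj h⟩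
    · have : ¬ m j ≤ m i := fun h => hj (hinc _ _ h)
      obtain ⟨b, hb1, hb2⟩ := SetLike.not_le_iff_exists.mp this
      exact ⟨b, fun _ => ⟨hb1, hb2⟩⟩
  choose b hb using h1
  refine ⟨∏ j ∈ Finset.univ.erase i, b j, ?_, fun j hj => ?_⟩
  · intro h
    rw [Ideal.IsPrime.prod_mem_iff] at h
    obtain ⟨j, hj, hj'⟩ := h
    exact (hb j (Finset.ne_of_mem_erase hj)).2 hj'
  · exact Ideal.prod_mem _ (Finset.mem_erase.mpr ⟨hj, Finset.mem_univ _⟩) (hb j hj).1

/-- the twisted invariants -/
def tw (u : B ⊗[A] B) : Submodule A B where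
  carrier := {k : B | (1 : B) ⊗ₜ[A] k = u * (k ⊗ₜ[A] (1 : B))}
  add_mem' {a b} ha hb := by
    simp only [Set.mem_ofPred_eq] at ha hb ⊢
    rw [TensorProduct.tmul_add, TensorProduct.add_tmul, mul_add, ha, hb]
  zero_mem' := by simp
  smul_mem' a b hb := by
    simp only [Set.mem_ofPred_eq] at hb ⊢
    rw [TensorProduct.tmul_smul, hb, ← TensorProduct.smul_tmul', mul_smul_comm]

theorem mem_tw {u : B ⊗[A] B} {k : B} : k ∈ tw u ↔ (1 : B) ⊗ₜ[A] k = u * (k ⊗ₜ[A] (1 : B)) := Iff.rfl

theorem not_mem_iff_of_comap {u : B ⊗[A] B} (hunit : IsUnit u) {k : B} (hk : k ∈ tw u)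
    {q₁ q₂ : PrimeSpectrum B} (h : PrimeSpectrum.comap (algebraMap A B) q₁ =
      PrimeSpectrum.comap (algebraMap A B) q₂) (h1 : k ∉ q₁.asIdeal) : k ∉ q₂.asIdeal := by
  intro h2
  have sq : IsPullback (Spec.map (CommRingCat.ofHom (Algebra.TensorProduct.includeLeft :
      B →ₐ[A] B ⊗[A] B).toRingHom)) (Spec.map (CommRingCat.ofHom
      (Algebra.TensorProduct.includeRight : B →ₐ[A] B ⊗[A] B).toRingHom))
      (Spec.map (CommRingCat.ofHom (algebraMap A B)))
      (Spec.map (CommRingCat.ofHom (algebraMap A B))) :=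
    isPullback_SpecMap_of_isPushout _ _ _ _ (CommRingCat.isPushout_tensorProduct A B B)
  obtain ⟨r, hr1, hr2⟩ := Scheme.exists_preimage_of_isPullback sq q₁ q₂ h
  have h3 : (k ⊗ₜ[A] (1 : B)) ∉ (r : PrimeSpectrum (B ⊗[A] B)).asIdeal := by
    intro h4
    apply h1
    rw [← hr1]
    exact h4
  have h4 : ((1 : B) ⊗ₜ[A] k) ∈ (r : PrimeSpectrum (B ⊗[A] B)).asIdeal := by
    rw [← hr2] at h2
    exact h2
  rw [mem_tw.mp hk] at h4
  rcases (r : PrimeSpectrum (B ⊗[A] B)).isPrime.mem_or_mem h4 with h5 | h5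
  · exact (r : PrimeSpectrum (B ⊗[A] B)).isPrime.ne_top (Ideal.eq_top_of_isUnit_mem _ h5 hunit)
  · exact h3 h5

/-- a generator of the twisted form over a neighbourhood of a fibre of a finite algebra -/
theorem exists_gen [Module.Finite R A] [Module.FaithfullyFlat A B] (u : B ⊗[A] B) (hunit : IsUnit u)
    (hu : K151.Amitsur.p12 A B u * K151.Amitsur.p23 A B u = K151.Amitsur.p13 A B u) (p : PrimeSpectrum R) :
    ∃ r : R, r ∉ p.asIdeal ∧ ∃ k ∈ tw u, ∃ (c : B) (n : ℕ), c * k = algebraMap A B (algebraMap R A r) ^ n := by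
  classical
  have hspan := K151.Amitsur.span_eq_top u hunit hu
  let F : Set (PrimeSpectrum A) := PrimeSpectrum.comap (algebraMap R A) ⁻¹' {p}
  have hF : F.Finite := Algebra.QuasiFinite.finite_comap_preimage_singleton p
  have : Finite F := hF.to_subtype
  have hinc : ∀ i j : F, (i : PrimeSpectrum A).asIdeal ≤ (j : PrimeSpectrum A).asIdeal → i = j := by
    intro i j hij
    by_contra hne
    have hlt : (i : PrimeSpectrum A).asIdeal < (j : PrimeSpectrum A).asIdeal :=
      lt_of_le_of_ne hij fun h => hne (Subtype.ext (PrimeSpectrum.ext h))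
    have h1 := Ideal.IsIntegral.comap_lt_comap (R := R) hlt
    have h2 : (i : PrimeSpectrum A).asIdeal.comap (algebraMap R A) =
        (j : PrimeSpectrum A).asIdeal.comap (algebraMap R A) := by
      have e1 : PrimeSpectrum.comap (algebraMap R A) i = p := i.2
      have e2 : PrimeSpectrum.comap (algebraMap R A) j = p := j.2
      exact congrArg PrimeSpectrum.asIdeal (e1.trans e2.symm)
    exact h1.ne h2
  have hq : ∀ i : F, ∃ q : PrimeSpectrum B, PrimeSpectrum.comap (algebraMap A B) q = i := fun i =>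
    PrimeSpectrum.comap_surjective_of_faithfullyFlat (B := B) (i : PrimeSpectrum A)
  choose q hq using hq
  have hk : ∀ i : F, ∃ k ∈ tw u, k ∉ (q i).asIdeal := by
    intro i
    by_contra! hcon
    have : Ideal.span {k : B | (1 : B) ⊗ₜ[A] k = u * (k ⊗ₜ[A] (1 : B))} ≤ (q i).asIdeal :=
      Ideal.span_le.mpr hcon
    rw [hspan] at this
    exact (q i).isPrime.ne_top (top_le_iff.mp this)
  choose k hk hkq using hk
  have hsep := exists_sep (fun i : F => (i : PrimeSpectrum A).asIdeal) hinc
  choose a ha ha' using hsep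
  cases nonempty_fintype F
  let K : B := ∑ i, a i • k i
  have hK : K ∈ tw u := Submodule.sum_mem _ fun i _ => Submodule.smul_mem _ _ (hk i)
  have hKq : ∀ i : F, K ∉ (q i).asIdeal := by
    intro i hcon
    have h1 : K = a i • k i + ∑ j ∈ Finset.univ.erase i, a j • k j :=
      (Finset.add_sum_erase _ _ (Finset.mem_univ i)).symm
    have h2 : ∑ j ∈ Finset.univ.erase i, a j • k j ∈ (q i).asIdeal := by
      refine Ideal.sum_mem _ fun j hj => ?_
      rw [Algebra.smul_def]
      refine Ideal.mul_mem_right _ _ ?_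
      have h3 : a j ∈ (i : PrimeSpectrum A).asIdeal := ha' j i (Finset.ne_of_mem_erase hj).symm
      rw [← hq i] at h3
      exact h3
    rw [h1] at hcon
    have h4 := (Ideal.add_mem_iff_left _ h2).mp hcon
    rw [Algebra.smul_def] at h4
    rcases (q i).isPrime.mem_or_mem h4 with h5 | h5
    · apply ha i
      rw [← hq i]
      exact h5
    · exact hkq i h5
  have hsurj := K151.GmGa.surjective_spec (R := A) (B := B)
  have hflat := K151.GmGa.flat_spec (R := A) (B := B)
  have hquot : Topology.IsQuotientMap (PrimeSpectrum.comap (algebraMap A B)) :=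
    Flat.isQuotientMap_of_surjective (Spec.map (CommRingCat.ofHom (algebraMap A B)))
  let W : Set (PrimeSpectrum A) := PrimeSpectrum.comap (algebraMap A B) ''
    (PrimeSpectrum.basicOpen K : Set (PrimeSpectrum B))
  have hWpre : PrimeSpectrum.comap (algebraMap A B) ⁻¹' W =
      (PrimeSpectrum.basicOpen K : Set (PrimeSpectrum B)) := by
    ext q₂
    constructor
    · rintro ⟨q₁, h1, h2⟩
      exact not_mem_iff_of_comap hunit hK h2 h1
    · intro h
      exact ⟨q₂, h, rfl⟩
  have hWopen : IsOpen W := by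
    rw [← hquot.isOpen_preimage, hWpre]
    exact (PrimeSpectrum.basicOpen K).isOpen
  have hFW : F ⊆ W := by
    intro i hi
    exact ⟨q ⟨i, hi⟩, hKq ⟨i, hi⟩, hq ⟨i, hi⟩⟩
  -- the image of the complement
  have hcl : IsClosed (PrimeSpectrum.comap (algebraMap R A) '' Wᶜ) := by
    have hi : (algebraMap R A).IsIntegral := Algebra.IsIntegral.isIntegral
    exact PrimeSpectrum.isClosedMap_comap_of_isIntegral _ hi _ hWopen.isClosed_compl
  have hpW : p ∈ (PrimeSpectrum.comap (algebraMap R A) '' Wᶜ)ᶜ := by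
    rintro ⟨m, hm1, hm2⟩
    exact hm1 (hFW hm2)
  obtain ⟨_, ⟨_, ⟨r, rfl⟩, rfl⟩, hpr, hrW⟩ :=
    PrimeSpectrum.isBasis_basic_opens.exists_subset_of_mem_open hpW hcl.isOpen_compl
  refine ⟨r, hpr, K, hK, ?_⟩
  have hle : PrimeSpectrum.basicOpen (algebraMap A B (algebraMap R A r)) ≤ PrimeSpectrum.basicOpen K := by
    intro q' hq'
    have h1 : PrimeSpectrum.comap (algebraMap A B) q' ∈ W := by
      by_contra hcon
      have h2 : PrimeSpectrum.comap (algebraMap R A) (PrimeSpectrum.comap (algebraMap A B) q') ∈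
          (PrimeSpectrum.basicOpen r : Set (PrimeSpectrum R)) := hq'
      exact hrW h2 ⟨_, hcon, rfl⟩
    have h2 : q' ∈ PrimeSpectrum.comap (algebraMap A B) ⁻¹' W := h1
    rw [hWpre] at h2
    exact h2
  obtain ⟨n, hn⟩ := (PrimeSpectrum.basicOpen_le_basicOpen_iff _ _).mp hle
  obtain ⟨c, hc⟩ := Ideal.mem_span_singleton'.mp hn
  exact ⟨c, n, hc⟩

end alg

section geom

open K151.GmGa

variable {S : Scheme.{u}} {E Q : Over S} [GrpObj E] [GrpObj Q] {u : Red.Gm S ⟶ E} {v : E ⟶ Q}
  (hex : NonAbH1.IsExactSeq Scheme.fppfPrecoverage u v)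

include hex

theorem v_props [IsCommMonObj E] : Smooth v.left ∧ IsAffineHom v.left ∧ Surjective v.left := by
  have hu := hex.1
  have hcart := K269.ThetaSec.isPullback_act hex (fun T g t => mul_comm _ _)
  have hloc : NonAbH1.IsLocallyTrivialFor Scheme.fpqcPrecoverage (Over.mk v.left : Over Q.left) := by
    obtain ⟨R, hR, h⟩ := hex.2.2.2.2
    exact ⟨R, Scheme.fppfPrecoverage_le_fpqcPrecoverage _ hR, h⟩
  exact ⟨K690.GeomQuot.prop_of_torsor @Smooth hcart hloc (K269.ThetaSec.smooth_gm _),
    K690.GeomQuot.prop_of_torsor @IsAffineHom hcart hloc (K269.ThetaSec.isAffineHom_gm _),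
    K151.TorsFpqc.surjective_of_isLocallyTrivialFor hloc⟩

variable {A : Type u} [CommRing A] (q : Spec (CommRingCat.of A) ⟶ Q.left)

omit hex in
/-- the point of `Q` with values in an `A`-algebra -/
noncomputable def qp (B : Type u) [CommRing B] [Algebra A B] : sp (q ≫ Q.hom) B ⟶ Q :=
  Over.homMk (Spec.map (CommRingCat.ofHom (algebraMap A B)) ≫ q) (Category.assoc _ _ _)

omit hex in
theorem spMap_qp {B C : Type u} [CommRing B] [Algebra A B] [CommRing C] [Algebra A C] (φ : B →ₐ[A] C) :
    spMap (q ≫ Q.hom) φ ≫ qp q B = qp q C := by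
  ext1
  change Spec.map _ ≫ Spec.map _ ≫ q = Spec.map _ ≫ q
  rw [← Spec.map_comp_assoc, ← CommRingCat.ofHom_comp, φ.comp_algebraMap]

/-- a point of `E` over a faithfully flat algebra -/
theorem exists_point [IsCommMonObj E] : ∃ (B : Type u) (_ : CommRing B) (_ : Algebra A B)
    (_ : Module.FaithfullyFlat A B) (x : sp (q ≫ Q.hom) B ⟶ E), x ≫ v = qp q B := by
  obtain ⟨h1, h2, h3⟩ := v_props hex
  have hfl : Flat v.left := inferInstance
  have h2' : IsAffineHom (Over.mk v.left : Over Q.left).hom := h2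
  have h3' : Surjective (Over.mk v.left : Over Q.left).hom := h3
  have hfl' : Flat (Over.mk v.left : Over Q.left).hom := hfl
  obtain ⟨B, _, _, hff, ⟨x⟩⟩ := exists_sp (Over.mk v.left : Over Q.left) q
  refine ⟨B, inferInstance, inferInstance, hff, Over.homMk x.left ?_, ?_⟩
  · have h4 : x.left ≫ v.left = Spec.map (CommRingCat.ofHom (algebraMap A B)) ≫ q := Over.w x
    change x.left ≫ E.hom = _
    rw [← Over.w v, ← Category.assoc, h4, Category.assoc]
    rfl
  · ext1
    exact Over.w x

omit hex in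
theorem exists_diff' (hpb : IsPullback (fst E (Red.Gm S)) ((E ◁ u) ≫ μ[E]) v v) {T : Over S} (x y : T ⟶ E)
    (h : x ≫ v = y ≫ v) : ∃ g : T ⟶ Red.Gm S, y = x * (g ≫ u) :=
  K564.ExtAlg.exists_diff_of_pb u v hpb x y h

omit hex in
theorem grp_aux {M : Type*} [CommGroup M] (a b c : M) : a * b⁻¹ = a * c * (c * b)⁻¹ := by
  rw [_root_.mul_inv_rev, mul_comm b⁻¹, ← _root_.mul_assoc, mul_inv_cancel_right]

/-- descent of a point of `E` corrected by a generator of the twisted form -/
theorem desc_aux {B : Type u} [CommRing B] [Algebra A B] (x : sp (q ≫ Q.hom) B ⟶ E) (hx : x ≫ v = qp q B)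
    (g : sp (q ≫ Q.hom) (B ⊗[A] B) ⟶ Red.Gm S)
    (hg : spMap (q ≫ Q.hom) Algebra.TensorProduct.includeRight ≫ x =
      (spMap (q ≫ Q.hom) Algebra.TensorProduct.includeLeft ≫ x) * (g ≫ u)) [IsCommMonObj E]
    (k : B) (hk : k ∈ tw (nf (q ≫ Q.hom) (Red.gmFn g))) {B' : Type u} [CommRing B'] [Algebra A B']
    (j : B →ₐ[A] B') (hk1 : IsUnit (j k)) {V : Scheme.{u}} (m : V ⟶ Spec (CommRingCat.of A)) [Mono m]
    (t : Spec (CommRingCat.of B') ⟶ V) (ht : t ≫ m = Spec.map (CommRingCat.ofHom (algebraMap A B')))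
    [Surjective t] [Flat t] [QuasiCompact t] : ∃ y : V ⟶ E.left, y ≫ v.left = m ≫ q := by
  have hum := hex.1
  let w := q ≫ Q.hom
  -- the corrected point
  let l : sp w B' ⟶ Red.Gm S := GmPts.ptOfUnit (isUnit_fn w hk1).unit
  let y : sp w B' ⟶ E := (spMap w j ≫ x) * (l ≫ u)⁻¹
  have hy : spMap w (Algebra.TensorProduct.includeLeft : B' →ₐ[A] B' ⊗[A] B') ≫ y =
      spMap w (Algebra.TensorProduct.includeRight : B' →ₐ[A] B' ⊗[A] B') ≫ y := by
    have e1 : (Algebra.TensorProduct.map j j).comp Algebra.TensorProduct.includeRight =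
        (Algebra.TensorProduct.includeRight : B' →ₐ[A] B' ⊗[A] B').comp j := by ext; simp
    have e2 : (Algebra.TensorProduct.map j j).comp Algebra.TensorProduct.includeLeft =
        (Algebra.TensorProduct.includeLeft : B' →ₐ[A] B' ⊗[A] B').comp j := by ext; simp
    have h1 := congrArg (fun z => spMap w (Algebra.TensorProduct.map j j) ≫ z) hg
    simp only [MonObj.comp_mul, w, spMap_comp_assoc, e1, e2] at h1
    simp only [y, MonObj.comp_mul, GrpObj.comp_inv, spMap_comp_assoc]
    have h2 : spMap w (Algebra.TensorProduct.includeRight : B' →ₐ[A] B' ⊗[A] B') ≫ l =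
        (spMap w (Algebra.TensorProduct.map j j) ≫ g) *
          (spMap w (Algebra.TensorProduct.includeLeft : B' →ₐ[A] B' ⊗[A] B') ≫ l) := by
      apply GmPts.gmFn_injective
      apply nf_injective
      dsimp only
      rw [GmPts.gmFn_mul, GmPts.gmFn_comp, GmPts.gmFn_comp, GmPts.gmFn_comp, nf_mul, nf_appTop,
        nf_appTop, nf_appTop, GmPts.gmFn_ptOfUnit]
      change Algebra.TensorProduct.includeRight (nf w (fn w (j k))) =
        Algebra.TensorProduct.map j j (nf w (Red.gmFn g)) *
        Algebra.TensorProduct.includeLeft (nf w (fn w (j k)))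
      rw [nf_fn]
      have h3 := congrArg (Algebra.TensorProduct.map j j) (mem_tw.mp hk)
      rw [map_mul] at h3
      simpa using h3
    rw [h1, ← Category.assoc _ l u, ← Category.assoc _ l u, h2, MonObj.mul_comp _ _ u, Category.assoc _ g u]
    exact grp_aux _ _ _
  have hP := isPullback_sp w m t ht
  have hy' := congrArg (fun z => z.left) hy
  have hdesc : ∀ {Z : Scheme.{u}} (g₁ g₂ : Z ⟶ Spec (CommRingCat.of B')), g₁ ≫ t = g₂ ≫ t →
      g₁ ≫ y.left = g₂ ≫ y.left := by
    intro Z g₁ g₂ h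
    have := congrArg (fun m => hP.lift g₁ g₂ h ≫ m) hy'
    simpa using this
  refine ⟨EffectiveEpi.desc t y.left hdesc, ?_⟩
  have hyv : y ≫ v = qp q B' := by
    have hvm := hex.2.1
    simp only [y, MonObj.mul_comp, GrpObj.inv_comp, Category.assoc, hex.2.2.1, comp_one, inv_one, _root_.mul_one, hx,
      spMap_qp, w]
  have hyv' : y.left ≫ v.left = Spec.map (CommRingCat.ofHom (algebraMap A B')) ≫ q := congrArg (fun z => z.left) hyv
  rw [← cancel_epi t, ← Category.assoc, EffectiveEpi.fac, hyv', ← ht, Category.assoc]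

/-- **Local sections along a finite algebra.** -/
theorem exists_section [IsCommMonObj E] {R : Type u} [CommRing R] [Algebra R A] [Module.Finite R A]
    (p : PrimeSpectrum R) : ∃ r : R, r ∉ p.asIdeal ∧
      ∃ y : Spec (CommRingCat.of (Localization.Away (algebraMap R A r))) ⟶ E.left, y ≫ v.left =
        Spec.map (CommRingCat.ofHom (algebraMap A (Localization.Away (algebraMap R A r)))) ≫ q := by
  have hpb := hex.2.2.2.1
  have hum := hex.1
  have hmono := K564.ExtAlg.mono_of_pb u v hpb
  obtain ⟨B, _, _, hff, x, hx⟩ := exists_point hex q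
  let w := q ≫ Q.hom
  obtain ⟨g, hg⟩ : ∃ g : sp w (B ⊗[A] B) ⟶ Red.Gm S, spMap w Algebra.TensorProduct.includeRight ≫ x =
      (spMap w Algebra.TensorProduct.includeLeft ≫ x) * (g ≫ u) := by
    refine exists_diff' hpb _ _ ?_
    rw [Category.assoc, Category.assoc, hx, spMap_qp, spMap_qp]
  have hco : (spMap w (K151.Amitsur.p12 A B) ≫ g) * (spMap w (K151.Amitsur.p23 A B) ≫ g) =
      spMap w (K151.Amitsur.p13 A B) ≫ g := by
    rw [← cancel_mono u, MonObj.mul_comp, Category.assoc, Category.assoc, Category.assoc]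
    have h12 := congrArg (fun z => spMap w (K151.Amitsur.p12 A B) ≫ z) hg
    have h23 := congrArg (fun z => spMap w (K151.Amitsur.p23 A B) ≫ z) hg
    have h13 := congrArg (fun z => spMap w (K151.Amitsur.p13 A B) ≫ z) hg
    simp only [MonObj.comp_mul, spMap_comp_assoc] at h12 h23 h13
    have e1 : (K151.Amitsur.p12 A B).comp Algebra.TensorProduct.includeRight =
        (K151.Amitsur.p23 A B).comp Algebra.TensorProduct.includeLeft := by ext; simp
    have e2 : (K151.Amitsur.p23 A B).comp Algebra.TensorProduct.includeRight =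
        (K151.Amitsur.p13 A B).comp Algebra.TensorProduct.includeRight := by ext; simp
    have e3 : (K151.Amitsur.p12 A B).comp Algebra.TensorProduct.includeLeft =
        (K151.Amitsur.p13 A B).comp Algebra.TensorProduct.includeLeft := by ext; simp
    rw [e1, e3] at h12
    rw [e2, h12, h13, _root_.mul_assoc] at h23
    exact (mul_left_cancel h23).symm
  let f : B ⊗[A] B := nf w (Red.gmFn g)
  have hunit : IsUnit f := isUnit_nf w (GmPts.isUnit_gmFn _)
  have hf : K151.Amitsur.p12 A B f * K151.Amitsur.p23 A B f = K151.Amitsur.p13 A B f := by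
    have h := congrArg (fun g => nf w (Red.gmFn g)) hco
    simp only [GmPts.gmFn_mul, GmPts.gmFn_comp, nf_mul, nf_appTop] at h
    exact h
  obtain ⟨r, hr, k, hk, c, n, hc⟩ := exists_gen f hunit hf p
  refine ⟨r, hr, ?_⟩
  let a : A := algebraMap R A r
  let A' := Localization.Away a
  let B' := A' ⊗[A] B
  let j : B →ₐ[A] B' := Algebra.TensorProduct.includeRight
  have hk1 : IsUnit (j k) := by
    have h1 : IsUnit (algebraMap A B' a) := by
      rw [IsScalarTower.algebraMap_apply A A' B']
      exact (IsLocalization.Away.algebraMap_isUnit a).map (algebraMap A' B')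
    have h2 : j c * j k = algebraMap A B' a ^ n := by
      rw [← map_mul, hc, map_pow, AlgHom.commutes]
    exact isUnit_of_mul_isUnit_right (h2 ▸ h1.pow n)
  have i1 : Surjective (Spec.map (CommRingCat.ofHom (algebraMap A' B'))) :=
    surjective_spec (R := A') (B := B')
  have i2 : Flat (Spec.map (CommRingCat.ofHom (algebraMap A' B'))) :=
    flat_spec (R := A') (B := B')
  have i4 : IsOpenImmersion (Spec.map (CommRingCat.ofHom (algebraMap A A'))) :=
    IsOpenImmersion.of_isLocalization a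
  refine desc_aux hex q x hx g hg k hk j hk1 (Spec.map (CommRingCat.ofHom (algebraMap A A')))
    (Spec.map (CommRingCat.ofHom (algebraMap A' B'))) ?_
  rw [← Spec.map_comp, ← CommRingCat.ofHom_comp, ← IsScalarTower.algebraMap_eq]

end geom

end K166.ExtSec
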