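import Groth.Agent.SGA7.K166.ExtFin
import Groth.Agent.SGA7.K166.ExtSec
import Groth.Agent.Sga3B.BcIso
import Groth.Prelude.Def_TwC

/-!
# Extensions of a finite locally free commutative group by the multiplicative group split fppf-locally
-/

set_option autoImplicit false
set_option linter.unusedSectionVars false
universe u

open CategoryTheory CategoryTheory.Limits MonoidalCategory CartesianMonoidalCategory MonObj GrpObj AlgebraicGeometry
open scoped TensorProduct
open Groth.Agent.Sga3B.AffPts Groth.Agent.Books.AffBridge Groth.Agent.Sga3B.DSPts Groth.Agent.Sga3B.BcIso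

namespace K166.ExtMain

open ExtFin ExtSec

section transfer

variable {S S' S'' : Scheme.{u}} (q : S'' ⟶ S') (g : S' ⟶ S)

theorem bcCompIso_hom (G : Over S) [GrpObj G] :
    (bcCompIso q g G).hom.hom.hom = (Over.pullbackComp q g).hom.app G := by
  simp [bcCompIso]
  rfl

theorem bcCompIso_naturality {E Q : Over S} [GrpObj E] [GrpObj Q] (v : E ⟶ Q) :
    (Over.pullback (q ≫ g)).map v ≫ (bcCompIso q g Q).hom.hom.hom =
      (bcCompIso q g E).hom.hom.hom ≫ (Over.pullback q).map ((Over.pullback g).map v) := by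
  rw [bcCompIso_hom, bcCompIso_hom]
  exact (Over.pullbackComp q g).hom.naturality v

/-- a homomorphic section over an iterated base change -/
theorem exists_hom_comp {E Q : Over S} [GrpObj E] [GrpObj Q] (v : E ⟶ Q)
    (h : ∃ σ : Red.bc q (Red.bc g Q) ⟶ Red.bc q (Red.bc g E), IsMonHom σ ∧
      σ ≫ (Over.pullback q).map ((Over.pullback g).map v) = 𝟙 (Red.bc q (Red.bc g Q))) :
    ∃ σ : Red.bc (q ≫ g) Q ⟶ Red.bc (q ≫ g) E, IsMonHom σ ∧
      σ ≫ (Over.pullback (q ≫ g)).map v = 𝟙 (Red.bc (q ≫ g) Q) := by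
  obtain ⟨σ, hσ, hσv⟩ := h
  let a : Red.bc (q ≫ g) Q ⟶ Red.bc q (Red.bc g Q) := (bcCompIso q g Q).hom.hom.hom
  let a' : Red.bc q (Red.bc g Q) ⟶ Red.bc (q ≫ g) Q := (bcCompIso q g Q).inv.hom.hom
  let b : Red.bc (q ≫ g) E ⟶ Red.bc q (Red.bc g E) := (bcCompIso q g E).hom.hom.hom
  let b' : Red.bc q (Red.bc g E) ⟶ Red.bc (q ≫ g) E := (bcCompIso q g E).inv.hom.hom
  have ha : IsMonHom a := (bcCompIso q g Q).hom.hom.isMonHom_hom
  have hb : IsMonHom b' := (bcCompIso q g E).inv.hom.isMonHom_hom
  have haa : a ≫ a' = 𝟙 _ := congrArg (fun z => z.hom.hom) (bcCompIso q g Q).hom_inv_id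
  have hbb : b' ≫ b = 𝟙 _ := congrArg (fun z => z.hom.hom) (bcCompIso q g E).inv_hom_id
  have hn : (Over.pullback (q ≫ g)).map v ≫ a = b ≫ (Over.pullback q).map ((Over.pullback g).map v) :=
    bcCompIso_naturality q g v
  refine ⟨a ≫ σ ≫ b', inferInstance, ?_⟩
  have h1 : b' ≫ (Over.pullback (q ≫ g)).map v ≫ a = (Over.pullback q).map ((Over.pullback g).map v) := by
    rw [hn, ← Category.assoc, hbb, Category.id_comp]
  have h2 : b' ≫ (Over.pullback (q ≫ g)).map v = (Over.pullback q).map ((Over.pullback g).map v) ≫ a' := by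
    rw [← h1, Category.assoc, Category.assoc, haa, Category.comp_id]
  rw [Category.assoc, Category.assoc, h2, ← Category.assoc σ, hσv, Category.id_comp, haa]

end transfer

section gm

variable {S : Scheme.{u}} {R : Type u} [CommRing R] (j : Spec (CommRingCat.of R) ⟶ S)

/-- the points of the base change of the multiplicative group -/
noncomputable def ugrpGm : UGrp (Red.bc j (Red.Gm S)) where
  eq T := (bcEquiv j T (Red.Gm S)).symm.trans (GmPts.equiv ((Over.map j).obj T))
  nat {T T'} h t := by
    change (GmPts.unitOfPt ((bcEquiv j T' (Red.Gm S)).symm (h ≫ t))).val =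
      fnMap h (GmPts.unitOfPt ((bcEquiv j T (Red.Gm S)).symm t)).val
    rw [← bcEquiv_symm_naturality]
    exact GmPts.gmFn_comp _ _

end gm

section sec

variable {S : Scheme.{u}} {Q E : Over S} [GrpObj Q] [GrpObj E] [IsCommMonObj E] [IsFinite Q.hom]
  {u : Red.Gm S ⟶ E} {v : E ⟶ Q} (hex : NonAbH1.IsExactSeq Scheme.fppfPrecoverage u v)

include hex in
theorem exists_local_section (s : S) : ∃ (R' : Type u) (_ : CommRing R') (j : Spec (CommRingCat.of R') ⟶ S)
    (_ : IsOpenImmersion j), s ∈ Set.range j ∧ ∃ y : (Over.map j).obj (Red.bc j Q) ⟶ E,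
      y ≫ v = (bcEquiv j (Red.bc j Q) Q).symm (𝟙 _) := by
  obtain ⟨_, ⟨U, hU, rfl⟩, hsU, -⟩ := S.isBasis_affineOpens.exists_subset_of_mem_open
    (Set.mem_univ s) isOpen_univ
  have hU : IsAffineOpen U := hU
  let R : Type u := Γ(S, U)
  let j : Spec (CommRingCat.of R) ⟶ S := hU.fromSpec
  have hj : IsOpenImmersion j := inferInstanceAs (IsOpenImmersion hU.fromSpec)
  obtain ⟨p, hp⟩ : s ∈ Set.range j := by
    change s ∈ Set.range hU.fromSpec
    rw [hU.range_fromSpec]; exact hsU
  let Z := pullback Q.hom j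
  have hZ : IsAffine Z := isAffine_of_isAffineHom (pullback.snd Q.hom j)
  obtain ⟨φ, hφ⟩ := Spec.map_surjective (Z.isoSpec.inv ≫ pullback.snd Q.hom j)
  let A : Type u := Γ(Z, ⊤)
  let _ : Algebra R A := φ.hom.toAlgebra
  have hφ' : Spec.map (CommRingCat.ofHom (algebraMap R A)) = Z.isoSpec.inv ≫ pullback.snd Q.hom j := hφ
  have hfin : Module.Finite R A := by
    have h1 : IsFinite (Spec.map φ) := by rw [hφ]; infer_instance
    exact (IsFinite.SpecMap_iff φ).1 h1
  let q : Spec (CommRingCat.of A) ⟶ Q.left := Z.isoSpec.inv ≫ pullback.fst Q.hom j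
  obtain ⟨r, hr, y, hy⟩ := exists_section hex q (R := R) p
  let a : A := algebraMap R A r
  let R' := Localization.Away r
  let k : Spec (CommRingCat.of R') ⟶ Spec (CommRingCat.of R) := Spec.map (CommRingCat.ofHom (algebraMap R R'))
  have hk : IsOpenImmersion k := IsOpenImmersion.of_isLocalization r
  have hl : IsOpenImmersion (Spec.map (CommRingCat.ofHom (algebraMap A (Localization.Away a)))) :=
    IsOpenImmersion.of_isLocalization a
  let j' := k ≫ j
  let t : pullback Q.hom j' ⟶ Spec (CommRingCat.of A) :=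
    pullback.lift (pullback.fst Q.hom j') (pullback.snd Q.hom j' ≫ k) (by
      rw [pullback.condition, Category.assoc]) ≫ Z.isoSpec.hom
  have ht1 : t ≫ q = pullback.fst Q.hom j' := by
    simp only [t, q, Category.assoc, Iso.hom_inv_id_assoc]
    exact pullback.lift_fst _ _ _
  have ht2 : t ≫ Spec.map (CommRingCat.ofHom (algebraMap R A)) = pullback.snd Q.hom j' ≫ k := by
    rw [hφ']
    simp only [t, Category.assoc, Iso.hom_inv_id_assoc]
    exact pullback.lift_snd _ _ _
  have hrange : Set.range t ⊆ Set.range (Spec.map (CommRingCat.ofHom (algebraMap A (Localization.Away a)))) := by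
    rintro _ ⟨z, rfl⟩
    have h2 := PrimeSpectrum.localization_away_comap_range (Localization.Away a) a
    change t z ∈ Set.range (PrimeSpectrum.comap (algebraMap A (Localization.Away a)))
    rw [h2]
    have h3 : Spec.map (CommRingCat.ofHom (algebraMap R A)) (t z) = k (pullback.snd Q.hom j' z) := by
      rw [← Scheme.Hom.comp_apply, ht2, Scheme.Hom.comp_apply]
    have h4 : k (pullback.snd Q.hom j' z) ∈ Set.range k := ⟨_, rfl⟩
    rw [← h3] at h4
    have h5 := PrimeSpectrum.localization_away_comap_range R' r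
    have h6 : Spec.map (CommRingCat.ofHom (algebraMap R A)) (t z) ∈
        ((PrimeSpectrum.basicOpen r : TopologicalSpace.Opens (PrimeSpectrum R)) : Set (PrimeSpectrum R)) := by
      rw [← h5]
      exact h4
    exact h6
  let m : pullback Q.hom j' ⟶ Spec (CommRingCat.of (Localization.Away a)) :=
    IsOpenImmersion.lift (Spec.map (CommRingCat.ofHom (algebraMap A (Localization.Away a)))) t hrange
  have hm : m ≫ Spec.map (CommRingCat.ofHom (algebraMap A (Localization.Away a))) = t :=
    IsOpenImmersion.lift_fac _ _ _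
  have hmy : (m ≫ y) ≫ v.left = pullback.fst Q.hom j' := by
    rw [Category.assoc, hy, ← Category.assoc, hm, ht1]
  refine ⟨R', inferInstance, j', inferInstance, ?_, Over.homMk (m ≫ y) ?_, ?_⟩
  · have h1 : p ∈ Set.range k := by
      have h5 := PrimeSpectrum.localization_away_comap_range R' r
      change p ∈ Set.range (PrimeSpectrum.comap (algebraMap R R'))
      rw [h5]
      exact hr
    obtain ⟨p', hp'⟩ := h1
    exact ⟨p', by rw [Scheme.Hom.comp_apply, hp', hp]⟩
  · change (m ≫ y) ≫ E.hom = pullback.snd Q.hom j' ≫ j'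
    rw [← Over.w v, ← Category.assoc, hmy, pullback.condition]
  · ext1
    rw [bcEquiv_symm_left]
    change (m ≫ y) ≫ v.left = 𝟙 _ ≫ pullback.fst Q.hom j'
    rw [hmy, Category.id_comp]

end sec

section fin

variable {S : Scheme.{u}} {Q E : Over S} [GrpObj Q] [GrpObj E] [IsCommMonObj Q] [IsCommMonObj E] [IsFinite Q.hom]
  [Flat Q.hom] [LocallyOfFinitePresentation Q.hom] {u : Red.Gm S ⟶ E} {v : E ⟶ Q}
  (hex : NonAbH1.IsExactSeq Scheme.fppfPrecoverage u v)

include hex in
/-- **Extensions of a finite locally free commutative group by the multiplicative group split fppf-locally.** -/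
theorem fin_case (s : S) : ∃ (S' : Scheme.{u}) (f : S' ⟶ S), Flat f ∧ LocallyOfFinitePresentation f ∧
    s ∈ Set.range f.base ∧ ∃ σ : Red.bc f Q ⟶ Red.bc f E,
      IsMonHom σ ∧ σ ≫ (Over.pullback f).map v = 𝟙 (Red.bc f Q) := by
  obtain ⟨R, _, j, hj, ⟨p, hp⟩, y, hy⟩ := exists_local_section hex s
  obtain ⟨hu, hv, huv, hpb, -⟩ := hex
  let Q' := Red.bc j Q
  let E' := Red.bc j E
  let G' := Red.bc j (Red.Gm S)
  let u' : G' ⟶ E' := (Over.pullback j).map u
  let v' : E' ⟶ Q' := (Over.pullback j).map v
  have hu' : IsMonHom u' := K564.ExtBase.isMonHom_map j u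
  have hv' : IsMonHom v' := K564.ExtBase.isMonHom_map j v
  have huv' : u' ≫ v' = 1 := K564.ExtBase.map_comp_eq_one j u v huv
  have hpb' : IsPullback (fst E' G') ((E' ◁ u') ≫ μ[E']) v' v' := K564.ExtBase.isPullback_bc j u v hpb
  let s' : Q' ⟶ E' := bcEquiv j Q' E y
  have hs' : s' ≫ v' = 𝟙 Q' := by
    change bcEquiv j Q' E y ≫ (Over.pullback j).map v = _
    rw [bcEquiv_comp, hy, MulEquiv.apply_symm_apply]
  have hfinQ : IsFinite Q'.hom := MorphismProperty.pullback_snd (P := @IsFinite) _ _ ‹_›
  have hflatQ : Flat Q'.hom := MorphismProperty.pullback_snd (P := @Flat) _ _ ‹_›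
  have hfpQ : LocallyOfFinitePresentation Q'.hom :=
    MorphismProperty.pullback_snd (P := @LocallyOfFinitePresentation) _ _ ‹_›
  have haff : IsAffine Q'.left := isAffine_of_isAffineHom Q'.hom
  have hcE : IsCommMonObj E' := inferInstanceAs (IsCommMonObj ((Over.pullback j).obj E))
  have hcQ : IsCommMonObj Q' := inferInstanceAs (IsCommMonObj ((Over.pullback j).obj Q))
  obtain ⟨A, _, _, e, he⟩ := exists_hopf R Q'
  have hinv : IsMonHom e.symm.hom := inferInstanceAs (IsMonHom e.inv)
  let ei : Spec (CommRingCat.of A) ⟶ Q'.left := e.inv.left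
  have hiso : IsIso ei := inferInstanceAs (IsIso ((Over.forget _).map e.inv))
  let qh : Q'.left ⟶ Spec (CommRingCat.of R) := Q'.hom
  have e1 : Spec.map (CommRingCat.ofHom (algebraMap R A)) = ei ≫ qh := (Over.w e.inv).symm
  have hfin : Module.Finite R A := by
    have h1 : IsFinite (Spec.map (CommRingCat.ofHom (algebraMap R A))) := by
      rw [e1]
      have : IsFinite qh := hfinQ
      infer_instance
    exact RingHom.finite_algebraMap.mp ((IsFinite.SpecMap_iff _).1 h1)
  have hflat : Module.Flat R A := by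
    have h1 : Flat (Spec.map (CommRingCat.ofHom (algebraMap R A))) := by
      rw [e1]
      have : Flat qh := hflatQ
      infer_instance
    rw [HasRingHomProperty.Spec_iff (P := @Flat)] at h1
    exact (RingHom.flat_algebraMap_iff (R := R) (S := A)).mp h1
  have hfp : Algebra.FinitePresentation R A := by
    have h1 : LocallyOfFinitePresentation (Spec.map (CommRingCat.ofHom (algebraMap R A))) := by
      rw [e1]
      have : LocallyOfFinitePresentation qh := hfpQ
      infer_instance
    exact RingHom.finitePresentation_algebraMap.mp ((LocallyOfFinitePresentation.SpecMap_iff _).1 h1)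
  have hmfp : Module.FinitePresentation R A := Module.FinitePresentation.of_finite_of_finitePresentation R A
  have hproj : Module.Projective R A := Module.Flat.projective_of_finitePresentation
  obtain ⟨C, _, _, hCfin, hCproj, hCinj, σ, hσ, hσv⟩ :=
    exists_split_of_section (ugrpGm j) e.symm u' v' huv' hpb' s' hs'
  have hCff : Flat (qm R C) := by
    rw [HasRingHomProperty.Spec_iff (P := @Flat)]
    exact (RingHom.flat_algebraMap_iff (R := R) (S := C)).mpr inferInstance
  have hCfp : LocallyOfFinitePresentation (qm R C) := by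
    have h1 : Module.FinitePresentation R C := Module.finitePresentation_of_projective R C
    exact (LocallyOfFinitePresentation.SpecMap_iff _).2
      (RingHom.finitePresentation_algebraMap.mpr (Algebra.FinitePresentation.of_finitePresentation R C))
  refine ⟨Spec (CommRingCat.of C), qm R C ≫ j, inferInstance, inferInstance, ?_,
    exists_hom_comp (qm R C) j v ⟨σ, hσ, hσv⟩⟩
  have h2 : Function.Surjective (PrimeSpectrum.comap (algebraMap R C)) :=
    PrimeSpectrum.comap_surjective_iff_injective_of_finite.mpr hCinj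
  obtain ⟨p', hp'⟩ := h2 p
  refine ⟨p', ?_⟩
  rw [← hp, ← hp']
  rfl

end fin

end K166.ExtMain
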