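import Groth.Agent.SGA7.K166.ExtMain
import Groth.Agent.SGA3x.K5.Clopen
import Groth.Agent.SGA3x.K21.MultLoc
import Groth.Agent.SGA1.K151.ExSeq
import Groth.Agent.Sga3B.Trans894

/-!
# Extensions by the multiplicative group which are of multiplicative type split étale locally
-/

set_option autoImplicit false
set_option linter.unusedSectionVars false
universe u

open CategoryTheory CategoryTheory.Limits MonoidalCategory CartesianMonoidalCategory MonObj GrpObj AlgebraicGeometry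
open Groth.Agent.Sga3B.DSPts Groth.Agent.Sga3B.BcIso
open Groth.Agent.Sga3B Groth.Agent.SGA3x.K5.Clopen

namespace K166.ExtMult

section formal

variable {C : Type*} [Category C] [CartesianMonoidalCategory C] [BraidedCategory C]
variable {G E Q : C} [GrpObj G] [GrpObj E] [GrpObj Q] [IsCommMonObj E]

theorem section_of_retraction (u : G ⟶ E) (v : E ⟶ Q) [IsMonHom u] [IsMonHom v] (huv : u ≫ v = 1)
    (hpb : IsPullback (fst E G) ((E ◁ u) ≫ μ[E]) v v) (r : E ⟶ G) [IsMonHom r] (hr : u ≫ r = 𝟙 G) [Epi v]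
    (σ : Q ⟶ E) (hσ : v ≫ σ = 𝟙 E * (r ≫ u)⁻¹) : IsMonHom σ ∧ σ ≫ v = 𝟙 Q := by
  have h1 : σ ≫ v = 𝟙 Q := by
    rw [← cancel_epi v, ← Category.assoc, hσ, MonObj.mul_comp, GrpObj.inv_comp, Category.assoc, huv, comp_one,
      inv_one, _root_.mul_one, Category.id_comp, Category.comp_id]
  have h2 : σ ≫ r = 1 := by
    rw [← cancel_epi v, ← Category.assoc, hσ, MonObj.mul_comp, GrpObj.inv_comp, Category.assoc, hr, Category.comp_id,
      Category.id_comp, mul_inv_cancel, comp_one]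
  refine ⟨K564.ExtAlg.isMonHom_of_mul _ fun {T} a b => ?_, h1⟩
  obtain ⟨g, hg⟩ := K564.ExtAlg.exists_diff_of_pb u v hpb ((a * b) ≫ σ) ((a ≫ σ) * (b ≫ σ)) (by
    rw [MonObj.mul_comp (a ≫ σ), Category.assoc, Category.assoc, Category.assoc, h1, Category.comp_id,
      Category.comp_id, Category.comp_id])
  have h3 := congrArg (fun z => z ≫ r) hg
  simp only [MonObj.mul_comp, Category.assoc, h2, comp_one, _root_.mul_one, _root_.one_mul, hr,
    Category.comp_id] at h3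
  rw [← h3, one_comp, _root_.mul_one] at hg
  exact hg.symm

end formal

section ds

variable {S : Scheme.{u}}

theorem DSmap_comp {M N L : Type} [AddCommGroup M] [AddCommGroup N] [AddCommGroup L] (φ : M →+ N) (ψ : L →+ M) :
    Red.DSmap S φ ≫ Red.DSmap S ψ = Red.DSmap S (φ.comp ψ) := by
  refine (dsEquiv _ L).symm.injective ?_
  change dsChar _ = dsChar _
  have h1 : Red.DSmap S (φ.comp ψ) = 𝟙 _ ≫ Red.DSmap S (φ.comp ψ) := (Category.id_comp _).symm
  have h2 : Red.DSmap S φ = 𝟙 _ ≫ Red.DSmap S φ := (Category.id_comp _).symm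
  rw [h1, dsChar_DSmap, dsChar_DSmap, h2, dsChar_DSmap]
  rfl

theorem DSmap_id {M : Type} [AddCommGroup M] : Red.DSmap S (AddMonoidHom.id M) = 𝟙 _ := by
  refine (dsEquiv _ M).symm.injective ?_
  change dsChar _ = dsChar _
  have h2 : Red.DSmap S (AddMonoidHom.id M) = 𝟙 _ ≫ Red.DSmap S (AddMonoidHom.id M) := (Category.id_comp _).symm
  rw [h2, dsChar_DSmap]
  rfl

/-- a monomorphism of diagonalizable groups over a nonempty scheme is given by a surjection -/
theorem surjective_of_mono {M N : Type} [AddCommGroup M] [AddCommGroup N] (φ : M →+ N) (s : S)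
    (h : Mono (Red.DSmap S φ)) : Function.Surjective φ := by
  let L := N ⧸ φ.range
  let π : N →+ L := QuotientAddGroup.mk' φ.range
  have h1 : π.comp φ = (0 : N →+ L).comp φ := by
    ext m
    change ((φ m : N) : N ⧸ φ.range) = 0
    rw [QuotientAddGroup.eq_zero_iff]
    exact ⟨m, rfl⟩
  have h2 : Red.DSmap S π = Red.DSmap S (0 : N →+ L) := by
    rw [← cancel_mono (Red.DSmap S φ), DSmap_comp, DSmap_comp, h1]
  have h3 : π = 0 := eq_of_DSmap π 0 (𝟙_ (Over S)) s (fun T' _ q => by rw [h2])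
  intro n
  have h4 : (n : N ⧸ φ.range) = 0 := DFunLike.congr_fun h3 n
  rwa [QuotientAddGroup.eq_zero_iff] at h4

/-- a homomorphism of the multiplicative group to a diagonalizable group which is a monomorphism has a retraction near
each point -/
theorem exists_retraction_ds {M : Type} [AddCommGroup M] [Module.Finite ℤ M] (f : Red.DS S ℤ ⟶ Red.DS S M)
    [IsMonHom f] [Mono f] (s : S) : ∃ (R : CommRingCat.{u}) (w : Spec R ⟶ S), IsOpenImmersion w ∧
      s ∈ Set.range w ∧ ∃ r : Red.bc w (Red.DS S M) ⟶ Red.bc w (Red.DS S ℤ), IsMonHom r ∧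
        (Over.pullback w).map f ≫ r = 𝟙 _ := by
  obtain ⟨R, w, φ, hw, hs, h1, h2⟩ := BorLoc613.exists_spec_hom f s
  obtain ⟨p, hp⟩ := id hs
  let e := TorusAlgClosed.dsBcIso w M
  let e' := TorusAlgClosed.dsBcIso w ℤ
  have hm : Mono ((Over.pullback w).map f) := inferInstance
  have hee : e'.inv.hom.hom ≫ e'.hom.hom.hom = 𝟙 _ := congrArg (fun z => z.hom.hom) e'.inv_hom_id
  have hee' : e'.hom.hom.hom ≫ e'.inv.hom.hom = 𝟙 _ := congrArg (fun z => z.hom.hom) e'.hom_inv_id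
  have h3 : Red.DSmap (Spec R) φ = e'.inv.hom.hom ≫ (Over.pullback w).map f ≫ e.hom.hom.hom := by
    rw [h2, ← Category.assoc]
    erw [hee]
    rw [Category.id_comp]
  have i1 : IsIso e.hom.hom.hom := inferInstanceAs (IsIso ((Grp.forget _).map e.hom))
  have i2 : IsIso e'.inv.hom.hom := inferInstanceAs (IsIso ((Grp.forget _).map e'.inv))
  have hm' : Mono (Red.DSmap (Spec R) φ) := by
    rw [h3]
    infer_instance
  obtain ⟨m, hm1⟩ := surjective_of_mono φ p hm' 1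
  let ρ : ℤ →+ M := zmultiplesHom M m
  have hρ : φ.comp ρ = AddMonoidHom.id ℤ := by
    ext
    simp [ρ, hm1]
  have i3 : IsMonHom e.hom.hom.hom := e.hom.hom.isMonHom_hom
  have i4 : IsMonHom e'.inv.hom.hom := e'.inv.hom.isMonHom_hom
  have i5 : IsMonHom (Red.DSmap (Spec R) ρ) := Trans894.isMonHom_DSmap _
  refine ⟨R, w, hw, hs, e.hom.hom.hom ≫ Red.DSmap (Spec R) ρ ≫ e'.inv.hom.hom, ?_, ?_⟩
  · exact inferInstanceAs (IsMonHom (e.hom.hom.hom ≫ Red.DSmap (Spec R) ρ ≫ e'.inv.hom.hom))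
  · rw [← Category.assoc, h2, Category.assoc, ← Category.assoc (Red.DSmap (Spec R) φ), DSmap_comp, hρ, DSmap_id,
      Category.id_comp]
    exact hee'

end ds

section desc

variable {S : Scheme.{u}} {E Q Y : Over S}

theorem exists_desc_over (v : E ⟶ Q) (h1 : Surjective v.left) (h2 : Flat v.left) (h3 : QuasiCompact v.left) (ψ : E ⟶ Y)
    (h : ∀ {T : Over S} (w w' : T ⟶ E), w ≫ v = w' ≫ v → w ≫ ψ = w' ≫ ψ) : ∃ φ : Q ⟶ Y, v ≫ φ = ψ := by
  have i1 : Surjective (Over.mk v.left : Over Q.left).hom := h1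
  have i2 : Flat (Over.mk v.left : Over Q.left).hom := h2
  have i3 : QuasiCompact (Over.mk v.left : Over Q.left).hom := h3
  exact K151.ExSeq.over_exists_desc Scheme.fpqcPrecoverage v K151.TorsFpqc.isLocallyTrivialFor_of_flat ψ h

theorem epi_over (v : E ⟶ Q) (h1 : Surjective v.left) (h2 : Flat v.left) (h3 : QuasiCompact v.left) : Epi v := by
  have i1 : Surjective (Over.mk v.left : Over Q.left).hom := h1
  have i2 : Flat (Over.mk v.left : Over Q.left).hom := h2
  have i3 : QuasiCompact (Over.mk v.left : Over Q.left).hom := h3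
  exact ⟨fun _ _ h => K151.ExSeq.over_eq_of_comp Scheme.fpqcPrecoverage v K151.TorsFpqc.isLocallyTrivialFor_of_flat h⟩

end desc

section main

variable {S : Scheme.{u}} {Q E : Over S} [GrpObj Q] [GrpObj E] [IsCommMonObj Q] [IsCommMonObj E]
  {u : Red.Gm S ⟶ E} {v : E ⟶ Q} (hex : NonAbH1.IsExactSeq Scheme.fppfPrecoverage u v)

include hex in
theorem mult_case (hE : SGA3x.IsMultTypeFT E) (s : S) : ∃ (S' : Scheme.{u}) (f : S' ⟶ S), Etale f ∧
    s ∈ Set.range f.base ∧ ∃ σ : Red.bc f Q ⟶ Red.bc f E,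
      IsMonHom σ ∧ σ ≫ (Over.pullback f).map v = 𝟙 (Red.bc f Q) := by
  obtain ⟨B, _, f, M, _, hf, ⟨y, hy⟩, hM, ⟨e⟩⟩ := _root_.K10.MTLoc.exists_etale_split hE s
  obtain ⟨hvs, hva, hvsur⟩ := ExtSec.v_props hex
  obtain ⟨hu, hv, huv, hpb, -⟩ := hex
  have hum : Mono u := K564.ExtAlg.mono_of_pb u v hpb
  have hfin : Module.Finite ℤ M := Module.Finite.iff_addGroup_fg.mpr hM
  let E₁ := Red.bc f E
  let Q₁ := Red.bc f Q
  let G₁ := Red.bc f (Red.Gm S)
  let u₁ : G₁ ⟶ E₁ := (Over.pullback f).map u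
  let v₁ : E₁ ⟶ Q₁ := (Over.pullback f).map v
  have hu₁ : IsMonHom u₁ := K564.ExtBase.isMonHom_map f u
  have hv₁ : IsMonHom v₁ := K564.ExtBase.isMonHom_map f v
  have huv₁ : u₁ ≫ v₁ = 1 := K564.ExtBase.map_comp_eq_one f u v huv
  have hpb₁ : IsPullback (fst E₁ G₁) ((E₁ ◁ u₁) ≫ μ[E₁]) v₁ v₁ := K564.ExtBase.isPullback_bc f u v hpb
  have hmono₁ : Mono u₁ := K564.ExtAlg.mono_of_pb u₁ v₁ hpb₁
  let e' : Grp.mk G₁ ≅ Grp.mk (Red.DS _ ℤ) := TorusAlgClosed.dsBcIso f ℤ
  let ε : E₁ ≅ Red.DS _ M := (Grp.forget _).mapIso e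
  let ε' : G₁ ≅ Red.DS _ ℤ := (Grp.forget _).mapIso e'
  have i1 : IsMonHom ε.hom := e.hom.hom.isMonHom_hom
  have i2 : IsMonHom ε'.inv := e'.inv.hom.isMonHom_hom
  let g := ε'.inv ≫ u₁ ≫ ε.hom
  have ig : IsMonHom g := inferInstance
  have im : Mono g := inferInstance
  obtain ⟨R, w, hw, ⟨z, hz⟩, r, hr, hgr⟩ := exists_retraction_ds g y
  have hcE₁ : IsCommMonObj E₁ := inferInstanceAs (IsCommMonObj ((Over.pullback f).obj E))
  let E₂ := Red.bc w E₁
  let Q₂ := Red.bc w Q₁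
  let G₂ := Red.bc w G₁
  let u₂ : G₂ ⟶ E₂ := (Over.pullback w).map u₁
  let v₂ : E₂ ⟶ Q₂ := (Over.pullback w).map v₁
  have hu₂ : IsMonHom u₂ := K564.ExtBase.isMonHom_map w u₁
  have hv₂ : IsMonHom v₂ := K564.ExtBase.isMonHom_map w v₁
  have huv₂ : u₂ ≫ v₂ = 1 := K564.ExtBase.map_comp_eq_one w u₁ v₁ huv₁
  have hpb₂ : IsPullback (fst E₂ G₂) ((E₂ ◁ u₂) ≫ μ[E₂]) v₂ v₂ := K564.ExtBase.isPullback_bc w u₁ v₁ hpb₁
  have hcE₂ : IsCommMonObj E₂ := inferInstanceAs (IsCommMonObj ((Over.pullback w).obj E₁))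
  let a : E₂ ⟶ Red.bc w (Red.DS _ M) := (Over.pullback w).map ε.hom
  let b : Red.bc w (Red.DS _ ℤ) ⟶ G₂ := (Over.pullback w).map ε'.inv
  have ia : IsMonHom a := K564.ExtBase.isMonHom_map w ε.hom
  have ib : IsMonHom b := K564.ExtBase.isMonHom_map w ε'.inv
  let r₂ : E₂ ⟶ G₂ := a ≫ r ≫ b
  have ir₂ : IsMonHom r₂ := inferInstanceAs (IsMonHom (a ≫ r ≫ b))
  let b' : G₂ ⟶ Red.bc w (Red.DS _ ℤ) := (Over.pullback w).map ε'.hom
  have hbb : b' ≫ b = 𝟙 _ := by
    change (Over.pullback w).map ε'.hom ≫ (Over.pullback w).map ε'.inv = _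
    rw [← Functor.map_comp, Iso.hom_inv_id]
    exact (Over.pullback w).map_id _
  have hgr' : b ≫ u₂ ≫ a ≫ r = 𝟙 _ := by
    have h1 : b ≫ u₂ ≫ a = (Over.pullback w).map g := by
      change (Over.pullback w).map ε'.inv ≫ (Over.pullback w).map u₁ ≫ (Over.pullback w).map ε.hom = _
      rw [← Functor.map_comp, ← Functor.map_comp]
    rw [← hgr, ← h1, Category.assoc, Category.assoc]
  have hur : u₂ ≫ r₂ = 𝟙 _ := by
    have h2 : u₂ ≫ a ≫ r = b' := by
      rw [← Category.id_comp u₂, ← hbb, Category.assoc, Category.assoc, hgr', Category.comp_id]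
    change u₂ ≫ a ≫ r ≫ b = _
    rw [← Category.assoc a, ← Category.assoc u₂, h2, hbb]
  have hflat : Flat v.left := inferInstance
  have hqc : QuasiCompact v.left := inferInstance
  have hp1 := K564.ExtBase.isPullback_left f v
  have hp2 := K564.ExtBase.isPullback_left w v₁
  have hs2 : Surjective v₂.left := by
    have h1 : Surjective v₁.left := MorphismProperty.of_isPullback (P := @Surjective) hp1 hvsur
    exact MorphismProperty.of_isPullback (P := @Surjective) hp2 h1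
  have hfl2 : Flat v₂.left := by
    have h1 : Flat v₁.left := MorphismProperty.of_isPullback (P := @Flat) hp1 hflat
    exact MorphismProperty.of_isPullback (P := @Flat) hp2 h1
  have hqc2 : QuasiCompact v₂.left := by
    have h1 : QuasiCompact v₁.left := MorphismProperty.of_isPullback (P := @QuasiCompact) hp1 hqc
    exact MorphismProperty.of_isPullback (P := @QuasiCompact) hp2 h1
  have hepi : Epi v₂ := epi_over v₂ hs2 hfl2 hqc2
  obtain ⟨σ, hσ⟩ := exists_desc_over v₂ hs2 hfl2 hqc2 (𝟙 E₂ * (r₂ ≫ u₂)⁻¹) (by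
    intro T x x' hx
    obtain ⟨g, rfl⟩ := K564.ExtAlg.exists_diff_of_pb u₂ v₂ hpb₂ x x' hx
    simp only [MonObj.comp_mul, GrpObj.comp_inv, Category.comp_id, ← Category.assoc, MonObj.mul_comp]
    rw [Category.assoc g u₂ r₂, hur, Category.comp_id, _root_.mul_inv_rev, _root_.mul_assoc,
      mul_inv_cancel_left])
  obtain ⟨h1, h2⟩ := section_of_retraction u₂ v₂ huv₂ hpb₂ r₂ hur σ hσ
  refine ⟨Spec R, w ≫ f, inferInstance, ⟨z, ?_⟩, ExtMain.exists_hom_comp w f v ⟨σ, h1, h2⟩⟩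
  rw [← hy, ← hz]
  rfl

end main

end K166.ExtMult
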