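import Mathlib.RingTheory.Bialgebra.Convolution
import Mathlib.RingTheory.HopfAlgebra.Basic
import Mathlib.RingTheory.Flat.Rank
import Mathlib.RingTheory.Finiteness.ModuleFinitePresentation
import Mathlib.LinearAlgebra.Dual.Defs

/-!
# The universal group-like element of a twisted coalgebra

For a finite projective cocommutative coalgebra `P` the dual algebra `C` carries the universal group-like
element of `P`.  Applied to a finite projective commutative and cocommutative Hopf algebra `A` with the
comultiplication twisted by a symmetric 2-cocycle `h`, it makes `h` a coboundary over a finite projective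
faithful `R`-algebra.
-/

set_option autoImplicit false

open TensorProduct Coalgebra WithConv

namespace K166.TwDual

universe u v

section dualBasis

variable {R : Type u} [CommRing R] {P : Type v} [AddCommGroup P] [Module R P]

theorem exists_dual_basis [Module.Finite R P] [Module.Projective R P] :
    ∃ (n : ℕ) (a : Fin n → P) (f : Fin n → (P →ₗ[R] R)), ∀ x, ∑ i, f i x • a i = x := by
  obtain ⟨n, π, hπ⟩ := Module.Finite.exists_fin' R P
  obtain ⟨s, hs⟩ := Module.projective_lifting_property π LinearMap.id hπ
  refine ⟨n, fun i => π (Pi.single i 1), fun i => (LinearMap.proj i).comp s, fun x => ?_⟩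
  have h1 : ∑ i, (s x) i • (Pi.single i (1 : R) : Fin n → R) = s x := by
    ext j
    simp [Finset.sum_apply, Pi.single_apply]
  have h2 : π (s x) = x := LinearMap.congr_fun hs x
  rw [← h2]
  conv_rhs => rw [← h1]
  simp only [map_sum, map_smul, LinearMap.comp_apply, LinearMap.proj_apply, h2]

end dualBasis

set_option linter.unusedSectionVars false

section univ

variable {R : Type u} [CommRing R] {P : Type u} [AddCommGroup P] [Module R P] [Coalgebra R P]
  [IsCocomm R P] [Module.Finite R P] [Module.Projective R P]

variable (R P) in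
/-- the dual algebra -/
abbrev DA : Type u := WithConv (P →ₗ[R] R)

variable {n : ℕ} {a : Fin n → P} {f : Fin n → (P →ₗ[R] R)}

omit [IsCocomm R P] [Module.Finite R P] [Module.Projective R P] in
theorem eq_sum (h : ∀ x, ∑ i, f i x • a i = x) (g : DA R P) : g = ∑ k, g (a k) • toConv (f k) := by
  ext x
  conv_lhs => rw [← h x]
  simp [mul_comm]

omit [Coalgebra R P] [IsCocomm R P] [Module.Finite R P] [Module.Projective R P] in
theorem eval_mul (h : ∀ x, ∑ i, f i x • a i = x) {B : Type v} [CommRing B] [Algebra R B] (φ ψ : P →ₗ[R] B)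
    (z : P ⊗[R] P) :
    ∑ i, ∑ j, φ (a i) * ψ (a j) * algebraMap R B (LinearMap.mul' R R (TensorProduct.map (f i) (f j) z)) =
      LinearMap.mul' R B (TensorProduct.map φ ψ z) := by
  induction z using TensorProduct.induction_on with
  | zero => simp
  | add x y hx hy => simp only [map_add, mul_add, Finset.sum_add_distrib, hx, hy]
  | tmul x y =>
    simp only [TensorProduct.map_tmul, LinearMap.mul'_apply, map_mul]
    conv_rhs => rw [← h x, ← h y]
    simp only [map_sum, map_smul, Finset.sum_mul_sum, Algebra.smul_def]
    refine Finset.sum_congr rfl fun i _ => Finset.sum_congr rfl fun j _ => ?_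
    ring

/-- the value of the universal group-like element -/
def val (a : Fin n → P) (f : Fin n → (P →ₗ[R] R)) {B : Type v} [CommRing B] [Algebra R B] (φ : P →ₗ[R] B)
    (γ : DA R P →ₗ[R] B) : B :=
  ∑ i, φ (a i) * γ (toConv (f i))

theorem val_mul (h : ∀ x, ∑ i, f i x • a i = x) {B : Type v} [CommRing B] [Algebra R B]
    (φ ψ : WithConv (P →ₗ[R] B)) (γ : DA R P →ₐ[R] B) :
    val a f φ.ofConv γ.toLinearMap * val a f ψ.ofConv γ.toLinearMap =
      val a f (φ * ψ).ofConv γ.toLinearMap := by
  have h1 : ∀ i j, γ (toConv (f i)) * γ (toConv (f j)) =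
      ∑ k, algebraMap R B ((toConv (f i) * toConv (f j) : DA R P) (a k)) * γ (toConv (f k)) := by
    intro i j
    rw [← map_mul]
    conv_lhs => rw [eq_sum h (toConv (f i) * toConv (f j))]
    simp [Algebra.smul_def]
  simp only [val, AlgHom.toLinearMap_apply, Finset.sum_mul_sum]
  have h2 : ∀ i j, φ.ofConv (a i) * γ (toConv (f i)) * (ψ.ofConv (a j) * γ (toConv (f j))) =
      ∑ k, (φ.ofConv (a i) * ψ.ofConv (a j) *
        algebraMap R B (LinearMap.mul' R R (TensorProduct.map (f i) (f j) (comul (a k))))) *
          γ (toConv (f k)) := by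
    intro i j
    have : φ.ofConv (a i) * γ (toConv (f i)) * (ψ.ofConv (a j) * γ (toConv (f j))) =
      φ.ofConv (a i) * ψ.ofConv (a j) * (γ (toConv (f i)) * γ (toConv (f j))) := by ring
    rw [this, h1, Finset.mul_sum]
    refine Finset.sum_congr rfl fun k _ => ?_
    simp only [LinearMap.convMul_apply]
    ring
  simp only [h2]
  have h3 : ∀ k, (φ * ψ).ofConv (a k) = ∑ i, ∑ j, φ.ofConv (a i) * ψ.ofConv (a j) *
      algebraMap R B (LinearMap.mul' R R (TensorProduct.map (f i) (f j) (comul (a k)))) := by
    intro k
    rw [eval_mul h]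
    rfl
  simp only [h3, Finset.sum_mul]
  exact (Finset.sum_congr rfl fun i _ => Finset.sum_comm).trans Finset.sum_comm

theorem val_one (h : ∀ x, ∑ i, f i x • a i = x) {B : Type v} [CommRing B] [Algebra R B]
    (γ : DA R P →ₐ[R] B) : val a f (1 : WithConv (P →ₗ[R] B)).ofConv γ.toLinearMap = 1 := by
  have h1 : (1 : DA R P) = ∑ k, (1 : DA R P) (a k) • toConv (f k) := eq_sum h _
  have h2 := congrArg γ h1
  rw [map_one, map_sum] at h2
  rw [h2, val]
  refine Finset.sum_congr rfl fun i _ => ?_
  rw [map_smul, Algebra.smul_def]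
  rfl

omit [IsCocomm R P] in
instance : Module.Finite R (DA R P) :=
  Module.Finite.equiv (WithConv.linearEquiv R (P →ₗ[R] R)).symm

omit [IsCocomm R P] in
instance : Module.Projective R (DA R P) :=
  Module.Projective.of_equiv (WithConv.linearEquiv R (P →ₗ[R] R)).symm

omit [Module.Finite R P] [Module.Projective R P] in
theorem algebraMap_injective (p : P) (hp : counit (R := R) p = 1) :
    Function.Injective (algebraMap R (DA R P)) := by
  intro r s hrs
  have h1 := congrArg (fun g : DA R P => g p) hrs
  simpa [hp] using h1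

theorem exists_univ (p : P) (hp : counit (R := R) p = 1) :
    ∃ (C : Type u) (_ : CommRing C) (_ : Algebra R C), Module.Finite R C ∧ Module.Projective R C ∧
      Function.Injective (algebraMap R C) ∧ ∃ (n : ℕ) (a : Fin n → P) (g : Fin n → C),
        ∀ (B : Type u) [CommRing B] [Algebra R B] (γ : C →ₐ[R] B),
          (∀ φ ψ : WithConv (P →ₗ[R] B), (∑ i, φ.ofConv (a i) * γ (g i)) * (∑ i, ψ.ofConv (a i) * γ (g i)) =
            ∑ i, (φ * ψ).ofConv (a i) * γ (g i)) ∧
          ∑ i, (1 : WithConv (P →ₗ[R] B)).ofConv (a i) * γ (g i) = 1 := by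
  obtain ⟨n, a, f, hf⟩ := exists_dual_basis (R := R) (P := P)
  exact ⟨DA R P, inferInstance, inferInstance, inferInstance, inferInstance,
    algebraMap_injective p hp, n, a, fun i => toConv (f i), fun B _ _ γ =>
      ⟨fun φ ψ => val_mul hf φ ψ γ, val_one hf γ⟩⟩

end univ

section tw

variable {R : Type u} [CommRing R] {A : Type u} [CommRing A] [HopfAlgebra R A]

/-- the value of a function of two variables at two points -/
noncomputable def ev (h : A ⊗[R] A) {B : Type u} [CommRing B] [Algebra R B]
    (x y : WithConv (A →ₐ[R] B)) : B :=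
  Algebra.TensorProduct.lift x.ofConv y.ofConv (fun _ _ => Commute.all _ _) h

/-- normalized symmetric 2-cocycles with values in the multiplicative group, on points -/
structure Cocyc (h : A ⊗[R] A) : Prop where
  cocycle : ∀ (B : Type u) [CommRing B] [Algebra R B] (x y z : WithConv (A →ₐ[R] B)),
    ev h x y * ev h (x * y) z = ev h y z * ev h x (y * z)
  symm : ∀ (B : Type u) [CommRing B] [Algebra R B] (x y : WithConv (A →ₐ[R] B)), ev h x y = ev h y x
  one : ∀ (B : Type u) [CommRing B] [Algebra R B] (y : WithConv (A →ₐ[R] B)), ev h 1 y = 1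

variable (R A) in
/-- the module underlying `A`, to carry the twisted comultiplication -/
def Tw : Type u := A

noncomputable instance : AddCommGroup (Tw A) := inferInstanceAs (AddCommGroup A)
noncomputable instance : Module R (Tw A) := inferInstanceAs (Module R A)
instance [Module.Finite R A] : Module.Finite R (Tw A) := inferInstanceAs (Module.Finite R A)
instance [Module.Projective R A] : Module.Projective R (Tw A) :=
  inferInstanceAs (Module.Projective R A)

/-- the twisted comultiplication -/
noncomputable def twComul (h : A ⊗[R] A) : A →ₗ[R] A ⊗[R] A :=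
  (LinearMap.mulLeft R h).comp comul

theorem twComul_apply (h : A ⊗[R] A) (a : A) : twComul h a = h * comul a := rfl

theorem mul'_map_eq_ev {B : Type u} [CommRing B] [Algebra R B] (x y : WithConv (A →ₐ[R] B))
    (z : A ⊗[R] A) :
    LinearMap.mul' R B (TensorProduct.map x.ofConv.toLinearMap y.ofConv.toLinearMap z) = ev z x y := by
  induction z using TensorProduct.induction_on with
  | zero => simp [ev]
  | add a b ha hb => simp only [map_add, ha, hb, ev]
  | tmul a b => simp [ev]

theorem ev_mul {B : Type u} [CommRing B] [Algebra R B] (x y : WithConv (A →ₐ[R] B)) (z w : A ⊗[R] A) :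
    ev (z * w) x y = ev z x y * ev w x y := map_mul _ _ _

theorem ev_comul {B : Type u} [CommRing B] [Algebra R B] (x y : WithConv (A →ₐ[R] B)) (a : A) :
    ev (comul a) x y = (x * y) a := (AlgHom.convMul_apply x y a).symm

theorem rTensor_tw (h z : A ⊗[R] A) :
    LinearMap.rTensor A (twComul h) z =
      (h ⊗ₜ[R] (1 : A)) * LinearMap.rTensor A (comul (R := R)) z := by
  induction z using TensorProduct.induction_on with
  | zero => simp
  | add a b ha hb => simp only [map_add, ha, hb, mul_add]
  | tmul a b => simp [twComul_apply]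

theorem lTensor_tw (h z : A ⊗[R] A) :
    LinearMap.lTensor A (twComul h) z =
      ((1 : A) ⊗ₜ[R] h) * LinearMap.lTensor A (comul (R := R)) z := by
  induction z using TensorProduct.induction_on with
  | zero => simp
  | add a b ha hb => simp only [map_add, ha, hb, mul_add]
  | tmul a b => simp [twComul_apply]

section incl

variable (R A)

/-- the three inclusions of `A` in `A ⊗ (A ⊗ A)` -/
noncomputable def i₁ : WithConv (A →ₐ[R] A ⊗[R] (A ⊗[R] A)) := toConv Algebra.TensorProduct.includeLeft
noncomputable def i₂ : WithConv (A →ₐ[R] A ⊗[R] (A ⊗[R] A)) :=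
  toConv ((Algebra.TensorProduct.includeRight).comp Algebra.TensorProduct.includeLeft)
noncomputable def i₃ : WithConv (A →ₐ[R] A ⊗[R] (A ⊗[R] A)) :=
  toConv ((Algebra.TensorProduct.includeRight).comp Algebra.TensorProduct.includeRight)

variable {R A}

theorem assoc_tmul (t : A ⊗[R] A) (b : A) :
    TensorProduct.assoc R A A A (t ⊗ₜ b) = ev t (i₁ R A) (i₂ R A) * (i₃ R A) b := by
  induction t using TensorProduct.induction_on with
  | zero => simp [ev]
  | add x y hx hy =>
    have : ev (x + y) (i₁ R A) (i₂ R A) = ev x (i₁ R A) (i₂ R A) + ev y (i₁ R A) (i₂ R A) := map_add _ _ _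
    rw [TensorProduct.add_tmul, map_add, hx, hy, this, add_mul]
  | tmul x y => simp [ev, i₁, i₂, i₃]

theorem tmul_eq (a : A) (t : A ⊗[R] A) :
    (a ⊗ₜ[R] t : A ⊗[R] (A ⊗[R] A)) = (i₁ R A) a * ev t (i₂ R A) (i₃ R A) := by
  induction t using TensorProduct.induction_on with
  | zero => simp [ev]
  | add x y hx hy =>
    have : ev (x + y) (i₂ R A) (i₃ R A) = ev x (i₂ R A) (i₃ R A) + ev y (i₂ R A) (i₃ R A) := map_add _ _ _
    rw [TensorProduct.tmul_add, hx, hy, this, mul_add]
  | tmul x y => simp [ev, i₁, i₂, i₃]

theorem assoc_rTensor (z : A ⊗[R] A) :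
    TensorProduct.assoc R A A A (LinearMap.rTensor A (comul (R := R)) z) =
      ev z (i₁ R A * i₂ R A) (i₃ R A) := by
  induction z using TensorProduct.induction_on with
  | zero => simp [ev]
  | add x y hx hy => simp only [map_add, hx, hy]; exact (map_add _ _ _).symm
  | tmul x y =>
    rw [LinearMap.rTensor_tmul, assoc_tmul, ev_comul]
    simp [ev]

theorem lTensor_comul (z : A ⊗[R] A) :
    LinearMap.lTensor A (comul (R := R)) z = ev z (i₁ R A) (i₂ R A * i₃ R A) := by
  induction z using TensorProduct.induction_on with
  | zero => simp [ev]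
  | add x y hx hy => simp only [map_add, hx, hy]; exact (map_add _ _ _).symm
  | tmul x y =>
    rw [LinearMap.lTensor_tmul, tmul_eq, ev_comul]
    simp [ev]

theorem assoc_mul (z w : (A ⊗[R] A) ⊗[R] A) :
    TensorProduct.assoc R A A A (z * w) = TensorProduct.assoc R A A A z * TensorProduct.assoc R A A A w :=
  map_mul (Algebra.TensorProduct.assoc R R R A A A) z w

end incl

variable {h : A ⊗[R] A} (hh : Cocyc h)

include hh

theorem tw_coassoc : (TensorProduct.assoc R A A A).toLinearMap ∘ₗ
    (LinearMap.rTensor A (twComul h)) ∘ₗ twComul h = LinearMap.lTensor A (twComul h) ∘ₗ twComul h := by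
  ext a
  have h1 : LinearMap.rTensor A (comul (R := R)) (h * comul a) =
      LinearMap.rTensor A (comul (R := R)) h * LinearMap.rTensor A (comul (R := R)) (comul a) :=
    map_mul (Algebra.TensorProduct.map (Bialgebra.comulAlgHom R A) (AlgHom.id R A)) _ _
  have h2 : LinearMap.lTensor A (comul (R := R)) (h * comul a) =
      LinearMap.lTensor A (comul (R := R)) h * LinearMap.lTensor A (comul (R := R)) (comul a) :=
    map_mul (Algebra.TensorProduct.map (AlgHom.id R A) (Bialgebra.comulAlgHom R A)) _ _
  simp only [LinearMap.comp_apply, LinearEquiv.coe_coe]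
  rw [twComul_apply, rTensor_tw, lTensor_tw, h1, h2, assoc_mul, assoc_mul, assoc_tmul, assoc_rTensor,
    Coalgebra.coassoc_apply, lTensor_comul h, tmul_eq, ← mul_assoc, ← mul_assoc]
  congr 1
  rw [map_one, mul_one, map_one, one_mul]
  exact hh.cocycle _ (i₁ R A) (i₂ R A) (i₃ R A)

omit hh in
theorem rTensor_counit (z : A ⊗[R] A) :
    LinearMap.rTensor A (counit (R := R)) z = (1 : R) ⊗ₜ ev z 1 (toConv (AlgHom.id R A)) := by
  induction z using TensorProduct.induction_on with
  | zero => simp [ev]
  | add x y hx hy => simp only [map_add, hx, hy, ev, TensorProduct.tmul_add]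
  | tmul x y =>
    have h1 : ev (x ⊗ₜ[R] y) 1 (toConv (AlgHom.id R A)) = (counit (R := R) x) • y := by
      rw [Algebra.smul_def]
      simp [ev, AlgHom.convOne_def]
    rw [h1, ← TensorProduct.smul_tmul]
    simp

omit hh in
theorem lTensor_counit (z : A ⊗[R] A) :
    LinearMap.lTensor A (counit (R := R)) z = ev z (toConv (AlgHom.id R A)) 1 ⊗ₜ (1 : R) := by
  induction z using TensorProduct.induction_on with
  | zero => simp [ev]
  | add x y hx hy => simp only [map_add, hx, hy, ev, TensorProduct.add_tmul]
  | tmul x y =>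
    have h1 : ev (x ⊗ₜ[R] y) (toConv (AlgHom.id R A)) 1 = (counit (R := R) y) • x := by
      rw [Algebra.smul_def, mul_comm]
      simp [ev, AlgHom.convOne_def]
    rw [h1, TensorProduct.smul_tmul]
    simp

theorem tw_rTensor_counit : LinearMap.rTensor A (counit (R := R)) ∘ₗ twComul h =
    TensorProduct.mk R R A 1 := by
  ext a
  rw [LinearMap.comp_apply, rTensor_counit, twComul_apply, ev_mul, hh.one, ev_comul, _root_.one_mul,
    _root_.one_mul]
  rfl

theorem tw_lTensor_counit : LinearMap.lTensor A (counit (R := R)) ∘ₗ twComul h =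
    (TensorProduct.mk R A R).flip 1 := by
  ext a
  rw [LinearMap.comp_apply, lTensor_counit, twComul_apply, ev_mul, hh.symm, hh.one, ev_comul,
    _root_.one_mul, _root_.mul_one]
  rfl

theorem tw_comm [IsCocomm R A] : (TensorProduct.comm R A A).toLinearMap ∘ₗ twComul h = twComul h := by
  ext a
  have h1 : TensorProduct.comm R A A (h * comul a) = TensorProduct.comm R A A h *
      TensorProduct.comm R A A (comul a) := map_mul (Algebra.TensorProduct.comm R A A) _ _
  have h2 : ∀ z : A ⊗[R] A, ev z (toConv (Algebra.TensorProduct.includeRight (R := R) (A := A) (B := A)))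
      (toConv Algebra.TensorProduct.includeLeft) = TensorProduct.comm R A A z := by
    intro z
    induction z using TensorProduct.induction_on with
    | zero => simp [ev]
    | add x y hx hy => rw [map_add, ← hx, ← hy]; exact map_add _ _ _
    | tmul x y => simp [ev]
  have h3 : ∀ z : A ⊗[R] A, ev z (toConv (Algebra.TensorProduct.includeLeft (R := R) (A := A) (B := A)))
      (toConv Algebra.TensorProduct.includeRight) = z := by
    intro z
    induction z using TensorProduct.induction_on with
    | zero => simp [ev]
    | add x y hx hy => conv_rhs => rw [← hx, ← hy]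
                       exact map_add _ _ _
    | tmul x y => simp [ev]
  simp only [LinearMap.comp_apply, LinearEquiv.coe_coe]
  rw [twComul_apply, h1, Coalgebra.comm_comul, ← h2, hh.symm, h3]

/-- the twisted coalgebra -/
@[reducible] noncomputable def twCoalgebra : Coalgebra R (Tw A) :=
  letI cs : Coalgebra R A :=
    { comul := twComul (A := A) h
      counit := Coalgebra.counit (R := R) (A := A)
      coassoc := tw_coassoc (A := A) hh
      rTensor_counit_comp_comul := tw_rTensor_counit (A := A) hh
      lTensor_counit_comp_comul := tw_lTensor_counit (A := A) hh }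
  cs

end tw

section main

variable {R : Type u} [CommRing R] {A : Type u} [CommRing A] [HopfAlgebra R A] [IsCocomm R A]
  [Module.Finite R A] [Module.Projective R A]

/-- **A symmetric 2-cocycle on a finite projective commutative group is a coboundary over a finite projective
faithful algebra.** -/
theorem exists_split {h : A ⊗[R] A} (hh : Cocyc h) :
    ∃ (C : Type u) (_ : CommRing C) (_ : Algebra R C), Module.Finite R C ∧ Module.Projective R C ∧
      Function.Injective (algebraMap R C) ∧ ∃ c : A ⊗[R] C, ∀ (B : Type u) [CommRing B] [Algebra R B]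
        (γ : C →ₐ[R] B), (∀ x y : WithConv (A →ₐ[R] B),
          Algebra.TensorProduct.lift x.ofConv γ (fun _ _ => Commute.all _ _) c *
              Algebra.TensorProduct.lift y.ofConv γ (fun _ _ => Commute.all _ _) c =
            ev h x y * Algebra.TensorProduct.lift (x * y).ofConv γ (fun _ _ => Commute.all _ _) c) ∧
          Algebra.TensorProduct.lift (1 : WithConv (A →ₐ[R] B)).ofConv γ
            (fun _ _ => Commute.all _ _) c = 1 := by
  let co : Coalgebra R (Tw A) := twCoalgebra hh
  have hcc : (TensorProduct.comm R (Tw A) (Tw A)).toLinearMap ∘ₗ comul = comul := tw_comm (A := A) hh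
  have hco : IsCocomm R (Tw A) := ⟨hcc⟩
  have h1 : counit (R := R) (A := Tw A) (1 : A) = 1 := Bialgebra.counit_one (R := R) (A := A)
  obtain ⟨C, _, _, hfin, hproj, hinj, n, a, g, hg⟩ := exists_univ (R := R) (P := Tw A) (1 : A) h1
  refine ⟨C, inferInstance, inferInstance, hfin, hproj, hinj, ∑ i, (a i : A) ⊗ₜ (g i),
    fun B _ _ γ => ⟨fun x y => ?_, ?_⟩⟩
  · have h2 := (hg B γ).1 (toConv (x.ofConv.toLinearMap : Tw A →ₗ[R] B))
      (toConv (y.ofConv.toLinearMap : Tw A →ₗ[R] B))
    simp only [map_sum, Algebra.TensorProduct.lift_tmul]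
    refine h2.trans ?_
    rw [Finset.mul_sum]
    refine Finset.sum_congr rfl fun i _ => ?_
    rw [← mul_assoc]
    congr 1
    change LinearMap.mul' R B (TensorProduct.map x.ofConv.toLinearMap y.ofConv.toLinearMap
      (h * Coalgebra.comul (R := R) (A := A) (a i))) = _
    rw [mul'_map_eq_ev, ev_mul, ev_comul]
  · have h2 := (hg B γ).2
    simp only [map_sum, Algebra.TensorProduct.lift_tmul]
    exact h2

end main

end K166.TwDual
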